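import Mathlib

/-!
# The order of an abelian permutation group

`card_pow_three_le`: `|A|³ ≤ 3ⁿ` for an abelian permutation group of degree `n`.
`exists_eight`: a quaternion group of order eight from two generators.
-/

set_option autoImplicit false

namespace Cfsg.Agent.SporRec.Nine.Abel

open Subgroup Equiv

theorem pow_three_le (k : ℕ) : k ^ 3 ≤ 3 ^ k := by
  rcases Nat.lt_or_ge k 3 with h | h
  · interval_cases k <;> norm_num
  · induction k, h using Nat.le_induction with
    | base => norm_num
    | succ k hk ih =>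
      have h1 : (k + 1) ^ 3 ≤ 3 * k ^ 3 := by
        nlinarith [mul_le_mul hk hk (by norm_num) (by omega), Nat.mul_le_mul_left (k ^ 2) hk]
      calc (k + 1) ^ 3 ≤ 3 * k ^ 3 := h1
        _ ≤ 3 * 3 ^ k := Nat.mul_le_mul_left 3 ih
        _ = 3 ^ (k + 1) := by rw [pow_succ]; ring

/-- An abelian permutation group of degree `n` has order at most `3 ^ (n / 3)`. -/
theorem card_pow_three_le {α : Type*} [Fintype α] (A : Subgroup (Perm α))
    (hA : ∀ a ∈ A, ∀ b ∈ A, a * b = b * a) : Nat.card A ^ 3 ≤ 3 ^ Fintype.card α := by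
  classical
  have hF : Fintype A := Fintype.ofFinite A
  have hΩ : Fintype (MulAction.orbitRel.Quotient A α) := Fintype.ofFinite _
  let r : MulAction.orbitRel.Quotient A α → α := fun ω => ω.out
  have h1 : (⨅ ω, MulAction.stabilizer A (r ω)) = ⊥ := by
    rw [eq_bot_iff]
    intro a ha
    rw [mem_bot]
    rw [mem_iInf] at ha
    apply Subtype.ext
    apply Equiv.ext
    intro x
    show (a : Perm α) x = x
    have h2 : r (Quotient.mk'' x) ∈ MulAction.orbit A x := by
      have := Quotient.out_eq' (Quotient.mk'' x : MulAction.orbitRel.Quotient A α)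
      exact MulAction.orbitRel_apply.1 (Quotient.eq''.1 this)
    obtain ⟨b, hb⟩ := h2
    have h3 : (b : Perm α) x = r (Quotient.mk'' x) := hb
    have h4 : (a : Perm α) (r (Quotient.mk'' x)) = r (Quotient.mk'' x) := ha (Quotient.mk'' x)
    rw [← h3] at h4
    have h5 : (a : Perm α) ((b : Perm α) x) = (b : Perm α) ((a : Perm α) x) := by
      have := hA a a.2 b b.2
      calc (a : Perm α) ((b : Perm α) x) = ((a : Perm α) * b) x := rfl
        _ = ((b : Perm α) * a) x := by rw [this]
        _ = (b : Perm α) ((a : Perm α) x) := rfl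
    rw [h5] at h4
    exact (b : Perm α).injective h4
  have h2 : Nat.card A ≤ ∏ ω, (MulAction.stabilizer A (r ω)).index := by
    have := Subgroup.index_iInf_le (fun ω => MulAction.stabilizer A (r ω))
    rwa [h1, Subgroup.index_bot] at this
  have h3 : ∀ ω, (MulAction.stabilizer A (r ω)).index = Fintype.card (MulAction.orbit A (r ω)) := by
    intro ω
    rw [MulAction.index_stabilizer, ← Nat.card_coe_set_eq, Nat.card_eq_fintype_card]
  have h4 : Fintype.card α = ∑ ω, Fintype.card (MulAction.orbit A (r ω)) := by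
    rw [← Fintype.card_sigma]
    exact Fintype.card_congr (MulAction.selfEquivSigmaOrbits A α)
  calc Nat.card A ^ 3 ≤ (∏ ω, (MulAction.stabilizer A (r ω)).index) ^ 3 := Nat.pow_le_pow_left h2 3
    _ = ∏ ω, (MulAction.stabilizer A (r ω)).index ^ 3 := by rw [Finset.prod_pow]
    _ ≤ ∏ ω, 3 ^ (MulAction.stabilizer A (r ω)).index := Finset.prod_le_prod' (fun ω _ => pow_three_le _)
    _ = 3 ^ ∑ ω, (MulAction.stabilizer A (r ω)).index := by rw [Finset.prod_pow_eq_pow_sum]
    _ = 3 ^ Fintype.card α := by rw [h4]; simp only [h3]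

/-- The quaternion group generated by `a` and `b`. -/
theorem exists_eight {G : Type*} [Group G] {a b t : G} (ha : a * a = t) (hb : b * b = t) (ht : t * t = 1)
    (ht1 : t ≠ 1) (hab : a * b = b * a * t) :
    ∃ Q : Subgroup G, Nat.card Q = 8 ∧ ∀ N : Subgroup G, a ∈ N → b ∈ N → Q ≤ N := by
  have hat : t ∈ zpowers a := ⟨2, by show a ^ (2 : ℤ) = t; rw [zpow_two, ha]⟩
  have hti : t⁻¹ = t := inv_eq_of_mul_eq_one_left ht
  have hta : a * t = t * a := by rw [← ha, mul_assoc]
  have htb : b * t = t * b := by rw [← hb, mul_assoc]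
  have hinv : a * t = a⁻¹ := by
    rw [eq_inv_iff_mul_eq_one, hta, mul_assoc, ha, ht]
  have hc : b⁻¹ * a * b = a⁻¹ := by
    rw [mul_assoc, hab, ← hinv]; group
  have hconj : ∀ x ∈ zpowers a, b⁻¹ * x * b ∈ zpowers a := by
    rintro _ ⟨i, rfl⟩
    show b⁻¹ * a ^ i * b ∈ zpowers a
    have : b⁻¹ * a ^ i * b = (b⁻¹ * a * b) ^ i := by
      have := conj_zpow (i := i) (a := b⁻¹) (b := a)
      rw [inv_inv] at this
      exact this.symm
    rw [this, hc]
    exact zpow_mem (inv_mem (mem_zpowers a)) i
  have hbb : b⁻¹ = t * b := by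
    rw [inv_eq_iff_mul_eq_one, ← mul_assoc, htb, mul_assoc, hb, ht]
  have hb2 : ∀ x, b⁻¹ * x ∈ zpowers a → b * x ∈ zpowers a := by
    intro x hx
    have : b * x = t * (b⁻¹ * x) := by
      rw [hbb, ← mul_assoc, ← mul_assoc, ht, one_mul]
    rw [this]
    exact mul_mem hat hx
  let Q : Subgroup G :=
    { carrier := {x | x ∈ zpowers a ∨ b⁻¹ * x ∈ zpowers a}
      one_mem' := Or.inl (one_mem _)
      mul_mem' := by
        rintro x y (hx | hx) (hy | hy)
        · exact Or.inl (mul_mem hx hy)
        · right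
          have : b⁻¹ * (x * y) = (b⁻¹ * x * b) * (b⁻¹ * y) := by group
          rw [this]
          exact mul_mem (hconj x hx) hy
        · right
          rw [← mul_assoc]
          exact mul_mem hx hy
        · left
          have : x * y = t * ((b⁻¹ * (b⁻¹ * x) * b) * (b⁻¹ * y)) := by
            have h1 : b⁻¹ * b⁻¹ = t := by rw [← mul_inv_rev, hb, hti]
            calc x * y = (t * t) * (x * y) := by rw [ht, one_mul]
              _ = t * ((b⁻¹ * b⁻¹) * (x * y)) := by rw [h1, mul_assoc]
              _ = t * ((b⁻¹ * (b⁻¹ * x) * b) * (b⁻¹ * y)) := by group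
          rw [this]
          exact mul_mem hat (mul_mem (hconj _ hx) hy)
      inv_mem' := by
        rintro x (hx | hx)
        · exact Or.inl (inv_mem hx)
        · right
          have : b⁻¹ * x⁻¹ = (b⁻¹ * (b⁻¹ * x)⁻¹ * b) * (b⁻¹ * b⁻¹) := by group
          rw [this]
          have h1 : b⁻¹ * b⁻¹ = t := by rw [← mul_inv_rev, hb, hti]
          rw [h1]
          exact mul_mem (hconj _ (inv_mem hx)) hat }
  have hQ : ∀ x, x ∈ Q ↔ x ∈ zpowers a ∨ b⁻¹ * x ∈ zpowers a := fun x => Iff.rfl
  have hbn : b ∉ zpowers a := by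
    rintro ⟨i, hi⟩
    have hi' : a ^ i = b := hi
    have h1 : a * b = b * a := by rw [← hi']; exact ((Commute.refl a).zpow_right i).eq
    rw [h1] at hab
    exact ht1 (mul_eq_left.1 hab.symm)
  have haQ : zpowers a ≤ Q := fun x hx => Or.inl hx
  have horder : Nat.card (zpowers a) = 4 := by
    rw [Nat.card_zpowers]
    have h4 : a ^ 2 ^ 1 ≠ 1 := by rw [pow_one, pow_two, ha]; exact ht1
    have h5 : a ^ 2 ^ (1 + 1) = 1 := by
      have : a ^ 2 ^ (1 + 1) = (a * a) * (a * a) := by norm_num [pow_succ, mul_assoc]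
      rw [this, ha, ht]
    have := orderOf_eq_prime_pow (p := 2) (n := 1) h4 h5
    exact this
  refine ⟨Q, ?_, ?_⟩
  · have h1 : (zpowers a).relIndex Q = 2 := by
      rw [relIndex, index_eq_two_iff]
      refine ⟨⟨b, Or.inr (by rw [inv_mul_cancel]; exact one_mem _)⟩, ?_⟩
      rintro ⟨x, hx⟩
      rw [mem_subgroupOf, mem_subgroupOf]
      show Xor (x * b ∈ zpowers a) (x ∈ zpowers a)
      rcases hx with hx | hx
      · right
        refine ⟨hx, fun h => hbn ?_⟩
        have : b = x⁻¹ * (x * b) := by group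
        rw [this]
        exact mul_mem (inv_mem hx) h
      · left
        constructor
        · have : x * b = b * b * (b⁻¹ * (b⁻¹ * x) * b) := by group
          rw [this, hb]
          exact mul_mem hat (hconj _ hx)
        · intro h
          apply hbn
          have : b = x * (b⁻¹ * x)⁻¹ := by group
          rw [this]
          exact mul_mem h (inv_mem hx)
    have h2 := Subgroup.card_mul_index ((zpowers a).subgroupOf Q)
    rw [Nat.card_congr (subgroupOfEquivOfLe haQ).toEquiv, horder] at h2
    rw [← h2]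
    show 4 * (zpowers a).relIndex Q = 8
    rw [h1]
  · intro N haN hbN x hx
    rcases hx with hx | hx
    · exact (zpowers_le.2 haN) hx
    · have : x = b * (b⁻¹ * x) := by group
      rw [this]
      exact N.mul_mem hbN ((zpowers_le.2 haN) hx)


/-- Fixed points of an element of prime order acting on a subgroup. -/
theorem card_modEq_fix {G : Type*} [Group G] [Finite G] {p : ℕ} (hp : p.Prime) {F : Subgroup G} {y : G}
    (hy : y ^ p = 1) (hF : ∀ e ∈ F, y * e * y⁻¹ ∈ F) :
    Nat.card F ≡ Nat.card (F ⊓ centralizer ({y} : Set G) : Subgroup G) [MOD p] := by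
  classical
  have hp : Fact (Nat.Prime p) := ⟨hp⟩
  have : Fintype F := Fintype.ofFinite F
  let f : Function.End F := fun e => ⟨y * e * y⁻¹, hF e e.2⟩
  have h1 : ∀ (n : ℕ) (e : F), (((f ^ n : Function.End F) e : F) : G) = y ^ n * e * (y ^ n)⁻¹ := by
    intro n
    induction n with
    | zero =>
      intro e
      rw [pow_zero, pow_zero, one_mul, inv_one, mul_one]; rfl
    | succ n ih =>
      intro e
      have h2 : ((f ^ (n + 1) : Function.End F) e : F) = (f ^ n : Function.End F) (f e) := by
        rw [pow_succ]; rfl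
      rw [h2, ih]
      show y ^ n * (y * e * y⁻¹) * (y ^ n)⁻¹ = _
      rw [pow_succ]; group
  have h2 : (f ^ p ^ 1 : Function.End F) = 1 := by
    funext e
    apply Subtype.ext
    rw [h1, pow_one, hy, one_mul, inv_one, mul_one]; rfl
  have h3 := Equiv.Perm.card_fixedPoints_modEq (f := f) (p := p) (n := 1) h2
  rw [Nat.card_eq_fintype_card]
  refine h3.trans ?_
  have h4 : Fintype.card (Function.fixedPoints f) = Nat.card (F ⊓ centralizer ({y} : Set G) : Subgroup G) := by
    rw [← Nat.card_eq_fintype_card]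
    refine Nat.card_congr
      { toFun := fun e => ⟨e.1, e.1.2, mem_centralizer_singleton_iff.2 ?_⟩
        invFun := fun e => ⟨⟨e.1, e.2.1⟩, ?_⟩
        left_inv := fun e => rfl
        right_inv := fun e => rfl }
    · have h5 : y * (e.1 : G) * y⁻¹ = e.1 := congrArg Subtype.val e.2
      exact (mul_inv_eq_iff_eq_mul.1 h5).symm
    · apply Subtype.ext
      show y * (e.1 : G) * y⁻¹ = e.1
      rw [mul_inv_eq_iff_eq_mul]
      exact (mem_centralizer_singleton_iff.1 e.2.2).symm
  rw [h4]

/-- A group acting on the non-trivial elements of another one with stabilisers of a given order. -/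
theorem card_dvd_of_stab {G : Type*} [Group G] [Finite G] (D E : Subgroup G) (hDE : ∀ d ∈ D, ∀ e ∈ E, d * e * d⁻¹ ∈ E) {m : ℕ}
    (hm : ∀ b ∈ E, b ≠ 1 → Nat.card (D ⊓ centralizer {b} : Subgroup G) = m) :
    (Nat.card D / m) ∣ (Nat.card E - 1) := by
  classical
  have hF1 : Fintype D := Fintype.ofFinite D
  have hF2 : Fintype {e : E // e ≠ 1} := Fintype.ofFinite _
  let _ : MulAction D {e : E // e ≠ 1} :=
    { smul := fun d e => ⟨⟨d * (e : E) * (d : G)⁻¹, hDE d d.2 e.1 e.1.2⟩, fun h =>
        e.2 (Subtype.ext (conj_eq_one_iff.1 (congrArg Subtype.val h)))⟩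
      one_smul := fun e => Subtype.ext (Subtype.ext (by
        show ((1 : D) : G) * (e : E) * ((1 : D) : G)⁻¹ = (e : E)
        rw [OneMemClass.coe_one, one_mul, inv_one, mul_one]))
      mul_smul := fun a b e => Subtype.ext (Subtype.ext (by
        show ((a * b : D) : G) * (e : E) * ((a * b : D) : G)⁻¹ = a * (b * (e : E) * (b : G)⁻¹) * (a : G)⁻¹
        rw [Subgroup.coe_mul]; group)) }
  have hsm : ∀ (d : D) (e : {e : E // e ≠ 1}), (((d • e : {e : E // e ≠ 1}) : E) : G) = d * (e : E) * (d : G)⁻¹ :=
    fun d e => rfl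
  have h1 := MulAction.card_eq_sum_card_group_div_card_stabilizer D {e : E // e ≠ 1}
  have h2 : ∀ e : {e : E // e ≠ 1}, Fintype.card (MulAction.stabilizer D e) = m := by
    intro e
    have hne : ((e : E) : G) ≠ 1 := fun h => e.2 (Subtype.ext h)
    rw [← hm e.1 e.1.2 hne, ← Nat.card_eq_fintype_card,
      ← Nat.card_congr (subgroupOfEquivOfLe (inf_le_left : D ⊓ centralizer {((e : E) : G)} ≤ D)).toEquiv]
    congr 1
    have : MulAction.stabilizer D e = (D ⊓ centralizer {((e : E) : G)}).subgroupOf D := by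
      ext d
      rw [MulAction.mem_stabilizer_iff, mem_subgroupOf, mem_inf, mem_centralizer_singleton_iff]
      constructor
      · intro h
        have h3 := congrArg (fun x : {e : E // e ≠ 1} => ((x : E) : G)) h
        rw [hsm] at h3
        exact ⟨d.2, mul_inv_eq_iff_eq_mul.1 h3⟩
      · intro h
        apply Subtype.ext
        apply Subtype.ext
        rw [hsm]
        exact mul_inv_eq_iff_eq_mul.2 h.2
    rw [this]
  have h3 : Fintype.card {e : E // e ≠ 1} = Nat.card E - 1 := by
    have : Fintype E := Fintype.ofFinite E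
    rw [Nat.card_eq_fintype_card, ← Fintype.card_subtype_eq (1 : E), Fintype.card_subtype_compl]
  rw [← h3, h1, Finset.sum_congr rfl (fun ω _ => by rw [h2]), Finset.sum_const, smul_eq_mul,
    ← Nat.card_eq_fintype_card]
  exact Dvd.intro_left _ rfl

end Cfsg.Agent.SporRec.Nine.Abel
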