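import Cfsg.Agent.SporRec.Nine.Core

/-!
# The order of the core of the centraliser of a `p`-cycle lift (groups with involution centraliser `2.A_n`)

`v` is an involution of `C(t)` inverting `f`, `B = C_{core f}(v)`:
* `card_core`: `|core f| = p |B|²` as soon as `v` and `v t` are conjugate in `C(t) ∩ C(f)`;
* `B` is abelian and inverted by `t`.
-/

set_option autoImplicit false

namespace Cfsg.Agent.SporRec.Nine.Card

open Subgroup Equiv Cfsg Cfsg.Agent.SporRec.TwoAn Cfsg.Agent.SporRec.Nine.Core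
open Cfsg.Agent.SporRec.LyFiveCore (exists_sqrt core)

variable {p n : ℕ} {G : Type*} [Group G] {L : AnType n G} {f : G} (hf : Cyc p L f)
  {v : G} (hv : v * v = 1) (hvt : v * L.t = L.t * v) (hvf : v * f * v⁻¹ = f⁻¹)

include hvf in
theorem conj_zpowers {x : G} (hx : x ∈ zpowers f) : v * x * v⁻¹ = x⁻¹ := by
  obtain ⟨i, rfl⟩ := hx
  show v * f ^ i * v⁻¹ = (f ^ i)⁻¹
  rw [← conj_zpow, hvf, inv_zpow]

include hvf in
theorem v_mem_normalizer : v ∈ normalizer (zpowers f : Set G) := by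
  rw [mem_normalizer_iff]
  intro x
  constructor
  · intro hx
    rw [conj_zpowers hvf hx]
    exact inv_mem hx
  · intro hx
    obtain ⟨i, hi⟩ := hx
    have hi' : f ^ i = v * x * v⁻¹ := hi
    have h1 : v⁻¹ * f * v = f⁻¹ := by
      have h2 : v⁻¹ * f⁻¹ * v = f := by rw [← hvf]; group
      calc v⁻¹ * f * v = (v⁻¹ * f⁻¹ * v)⁻¹ := by group
        _ = f⁻¹ := by rw [h2]
    refine ⟨-i, ?_⟩
    show f ^ (-i) = x
    have h3 : x = v⁻¹ * f ^ i * v := by rw [hi']; group
    have h4 : v⁻¹ * f ^ i * v = (f⁻¹) ^ i := by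
      have := conj_zpow (i := i) (a := v⁻¹) (b := f)
      rw [inv_inv] at this
      rw [← this, h1]
    rw [h3, h4, inv_zpow, zpow_neg]

include hvf in
theorem conj_v_mem [Finite G] {k : G} (hk : k ∈ core f) : v * k * v⁻¹ ∈ core f :=
  conj_mem_core_of_normalizer (v_mem_normalizer hvf) hk

include hf hvf in
theorem eq_one_of_comm {x : G} (hx : x ∈ zpowers f) (hxv : x * v = v * x) : x = 1 := by
  apply eq_one_of_mul_self hf hx
  have h1 := conj_zpowers hvf hx
  rw [← hxv, mul_inv_cancel_right] at h1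
  rw [mul_eq_one_iff_eq_inv]
  exact h1

include hf hvt hvf in
/-- `t` inverts `C_{core f}(v)`. -/
theorem conj_t_eq_inv [Finite G] {b : G} (hb : b ∈ core f) (hbv : b * v = v * b) : L.t * b * L.t⁻¹ = b⁻¹ := by
  have h1 := conj_t_mul hf hb
  have h2 : L.t * b * L.t⁻¹ * b = 1 := by
    apply eq_one_of_comm hf hvf h1
    have c1 : Commute b v := hbv
    have c2 : Commute L.t v := (show Commute v L.t from hvt).symm
    exact (((c2.mul_left c1).mul_left c2.inv_left).mul_left c1).eq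
  exact eq_inv_of_mul_eq_one_left h2

include hf hvf in
/-- `C_{core f}(v)` is abelian. -/
theorem comm_of_comm [Finite G] {a b : G} (ha : a ∈ core f) (hav : a * v = v * a) (hb : b ∈ core f)
    (hbv : b * v = v * b) : a * b = b * a := by
  have h1 : a * b * a⁻¹ * b⁻¹ = 1 := by
    apply eq_one_of_comm hf hvf (commutator_mem hf ha hb)
    have c1 : Commute a v := hav
    have c2 : Commute b v := hbv
    exact (((c1.mul_left c2).mul_left c1.inv_left).mul_left c2.inv_left).eq
  rw [mul_inv_eq_one, mul_inv_eq_iff_eq_mul] at h1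
  exact h1

/-- the elements of the core inverted by `v` -/
def inverted (f v : G) : Set G := {x | x ∈ core f ∧ v * x * v⁻¹ = x⁻¹}

include hf hv hvf in
theorem card_core_eq [Finite G] :
    Nat.card (core f) = Nat.card (inverted f v) * Nat.card (core f ⊓ centralizer ({v} : Set G) : Subgroup G) := by
  classical
  have hvi : v⁻¹ = v := inv_eq_of_mul_eq_one_left hv
  let Bs : Subgroup (core f) := (centralizer ({v} : Set G)).subgroupOf (core f)
  have hBs : ∀ x : core f, x ∈ Bs ↔ (x : G) * v = v * x := fun x => by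
    rw [mem_subgroupOf, mem_centralizer_singleton_iff]
  let θ : core f → inverted f v := fun k => ⟨(k : G) * (v * (k : G)⁻¹ * v⁻¹), by
    refine ⟨(core f).mul_mem k.2 (conj_v_mem hvf ((core f).inv_mem k.2)), ?_⟩
    rw [hvi]
    calc v * ((k : G) * (v * (k : G)⁻¹ * v)) * v = (v * k * v * (k : G)⁻¹) * (v * v) := by group
      _ = v * k * v * (k : G)⁻¹ := by rw [hv, mul_one]
      _ = ((k : G) * (v⁻¹ * (k : G)⁻¹ * v⁻¹))⁻¹ := by group
      _ = ((k : G) * (v * (k : G)⁻¹ * v))⁻¹ := by rw [hvi]⟩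
  have hθ : ∀ a b : core f, θ a = θ b ↔ (a : G)⁻¹ * b ∈ centralizer ({v} : Set G) := by
    intro a b
    rw [mem_centralizer_singleton_iff]
    constructor
    · intro h
      have h1 : (a : G) * (v * (a : G)⁻¹ * v⁻¹) = b * (v * (b : G)⁻¹ * v⁻¹) := congrArg Subtype.val h
      have h2 : (a : G) * v * (a : G)⁻¹ = b * v * (b : G)⁻¹ := by
        calc (a : G) * v * (a : G)⁻¹ = (a : G) * (v * (a : G)⁻¹ * v⁻¹) * v := by group
          _ = b * (v * (b : G)⁻¹ * v⁻¹) * v := by rw [h1]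
          _ = b * v * (b : G)⁻¹ := by group
      calc (a : G)⁻¹ * b * v = (a : G)⁻¹ * (b * v * (b : G)⁻¹) * b := by group
        _ = (a : G)⁻¹ * (a * v * (a : G)⁻¹) * b := by rw [h2]
        _ = v * ((a : G)⁻¹ * b) := by group
    · intro h
      apply Subtype.ext
      show (a : G) * (v * (a : G)⁻¹ * v⁻¹) = b * (v * (b : G)⁻¹ * v⁻¹)
      calc (a : G) * (v * (a : G)⁻¹ * v⁻¹) = a * (v * ((a : G)⁻¹ * b)) * (b : G)⁻¹ * v⁻¹ := by group
        _ = a * ((a : G)⁻¹ * b * v) * (b : G)⁻¹ * v⁻¹ := by rw [h]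
        _ = b * (v * (b : G)⁻¹ * v⁻¹) := by group
  let θ' : core f ⧸ Bs → inverted f v := Quotient.lift θ (by
    intro a b hab
    have hab' : a⁻¹ * b ∈ Bs := QuotientGroup.leftRel_apply.1 hab
    rw [hθ]
    rw [mem_subgroupOf] at hab'
    exact hab')
  have hbij : Function.Bijective θ' := by
    constructor
    · intro a b
      induction a using QuotientGroup.induction_on with
      | H a =>
        induction b using QuotientGroup.induction_on with
        | H b =>
          intro h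
          have h1 : θ a = θ b := h
          rw [hθ] at h1
          rw [QuotientGroup.eq]
          rw [mem_subgroupOf]
          exact h1
    · rintro ⟨x, hx, hx'⟩
      obtain ⟨j, hj⟩ := exists_sqrt (odd_card_core hf) hx
      refine ⟨QuotientGroup.mk ⟨x ^ j, (core f).pow_mem hx j⟩, ?_⟩
      apply Subtype.ext
      show x ^ j * (v * (x ^ j)⁻¹ * v⁻¹) = x
      have h1 : v * x ^ j * v⁻¹ = (x ^ j)⁻¹ := by rw [← conj_pow, hx', inv_pow]
      have h2 : v * (x ^ j)⁻¹ * v⁻¹ = x ^ j := by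
        calc v * (x ^ j)⁻¹ * v⁻¹ = (v * x ^ j * v⁻¹)⁻¹ := by group
          _ = x ^ j := by rw [h1, inv_inv]
      rw [h2, hj]
  rw [Subgroup.card_eq_card_quotient_mul_card_subgroup Bs, Nat.card_congr (Equiv.ofBijective θ' hbij)]
  congr 1
  have h1 : (core f ⊓ centralizer ({v} : Set G) : Subgroup G) = Bs.map (core f).subtype := by
    rw [subgroupOf_map_subtype, inf_comm]
  rw [h1, card_map_of_injective (core f).subtype_injective]

include hf hv hvt hvf in
theorem card_inverted [Finite G] :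
    Nat.card (inverted f v) = p * Nat.card (core f ⊓ centralizer ({v * L.t} : Set G) : Subgroup G) := by
  classical
  have hti := L.t_inv
  have hvi : v⁻¹ = v := inv_eq_of_mul_eq_one_left hv
  have htt := L.t_mul_t
  have hvt2 : v * L.t * (v * L.t) = 1 := by
    calc v * L.t * (v * L.t) = v * (L.t * v) * L.t := by group
      _ = (v * v) * (L.t * L.t) := by rw [← hvt]; group
      _ = 1 := by rw [hv, htt, mul_one]
  have hvtf : v * L.t * f * (v * L.t)⁻¹ = f⁻¹ := by
    calc v * L.t * f * (v * L.t)⁻¹ = v * (L.t * f) * L.t⁻¹ * v⁻¹ := by group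
      _ = v * (f * L.t) * L.t⁻¹ * v⁻¹ := by rw [← hf.comm]
      _ = f⁻¹ := by rw [← hvf]; group
  have hvtt : v * L.t * L.t = L.t * (v * L.t) := by rw [← mul_assoc, ← hvt]
  let φ : (zpowers f) × (core f ⊓ centralizer ({v * L.t} : Set G) : Subgroup G) → inverted f v :=
    fun p => ⟨(p.1 : G) * p.2, by
      have h1 : (p.2 : G) ∈ core f := p.2.2.1
      have h2 : (p.2 : G) * (v * L.t) = v * L.t * p.2 := mem_centralizer_singleton_iff.1 p.2.2.2
      have h3 : L.t * (p.2 : G) * L.t⁻¹ = (p.2 : G)⁻¹ := conj_t_eq_inv hf hvtt hvtf h1 h2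
      refine ⟨(core f).mul_mem (zpowers_le_core hf p.1.2) h1, ?_⟩
      have h4 : v * (p.2 : G) * v⁻¹ = (p.2 : G)⁻¹ := by
        calc v * (p.2 : G) * v⁻¹ = v * L.t * (L.t⁻¹ * p.2 * L.t) * (v * L.t)⁻¹ := by group
          _ = v * L.t * (L.t * p.2 * L.t⁻¹) * (v * L.t)⁻¹ := by rw [hti]
          _ = v * L.t * (p.2 : G)⁻¹ * (v * L.t)⁻¹ := by rw [h3]
          _ = (v * L.t * (p.2 : G) * (v * L.t)⁻¹)⁻¹ := by group
          _ = (p.2 : G)⁻¹ := by rw [← h2, mul_inv_cancel_right]
      have h5 := conj_zpowers hvf p.1.2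
      have h6 : (p.2 : G)⁻¹ * (p.1 : G)⁻¹ = (p.1 : G)⁻¹ * (p.2 : G)⁻¹ :=
        comm_zpow hf (inv_mem p.1.2) ((core f).inv_mem h1)
      calc v * ((p.1 : G) * p.2) * v⁻¹ = (v * p.1 * v⁻¹) * (v * p.2 * v⁻¹) := by group
        _ = (p.1 : G)⁻¹ * (p.2 : G)⁻¹ := by rw [h5, h4]
        _ = ((p.1 : G) * p.2)⁻¹ := by rw [← h6, mul_inv_rev]⟩
  have hbij : Function.Bijective φ := by
    constructor
    · rintro ⟨⟨a, ha⟩, ⟨b, hb⟩⟩ ⟨⟨a', ha'⟩, ⟨b', hb'⟩⟩ h
      have h1 : a * b = a' * b' := congrArg Subtype.val h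
      have h2 : a'⁻¹ * a = b' * b⁻¹ := by
        rw [inv_mul_eq_iff_eq_mul, ← mul_assoc, ← h1, mul_inv_cancel_right]
      have h3 : a'⁻¹ * a = 1 := by
        apply eq_one_of_comm hf hvtf (mul_mem (inv_mem ha') ha)
        rw [h2]
        have h4 := mem_centralizer_singleton_iff.1 (mul_mem hb'.2 (inv_mem hb.2))
        exact h4
      have h5 : a = a' := (inv_mul_eq_one.1 h3).symm
      subst h5
      have h6 : b = b' := mul_left_cancel h1
      subst h6
      rfl
    · rintro ⟨x, hx, hx'⟩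
      obtain ⟨i, hi⟩ := conj_t_mul hf hx
      -- `t x t⁻¹ = f^i x⁻¹`, `(v t) x (v t)⁻¹ = x f^{-i}`; put `b = x f^{-(m+1) i}`
      have hi' : f ^ i = L.t * x * L.t⁻¹ * x := hi
      obtain ⟨m, hm⟩ := hf.odd
      set c : G := f ^ (((m : ℤ) + 1) * i) with hc
      have hcz : c ∈ zpowers f := zpow_mem_zpowers f _
      have hfi : f ^ i ∈ zpowers f := zpow_mem_zpowers f _
      have hcc : c * c = f ^ i := by
        rw [hc, ← zpow_add]
        have : (((m : ℤ) + 1) * i + ((m : ℤ) + 1) * i : ℤ) = i + (p : ℤ) * i := by rw [hm]; push_cast; ring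
        rw [this, zpow_add, zpow_mul]
        have h5 : f ^ (p : ℤ) = 1 := by exact_mod_cast hf.pow
        rw [h5, one_zpow, mul_one]
      have hxt : L.t * x * L.t⁻¹ = f ^ i * x⁻¹ := by rw [hi']; group
      have hxf : x⁻¹ * f ^ i = f ^ i * x⁻¹ := comm_zpow hf hfi ((core f).inv_mem hx)
      have hxvt : v * L.t * x * (v * L.t)⁻¹ = x * (f ^ i)⁻¹ := by
        calc v * L.t * x * (v * L.t)⁻¹ = v * (L.t * x * L.t⁻¹) * v⁻¹ := by group
          _ = v * (x⁻¹ * f ^ i) * v⁻¹ := by rw [hxt, hxf]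
          _ = (v * x * v⁻¹)⁻¹ * (v * f ^ i * v⁻¹) := by group
          _ = x * (f ^ i)⁻¹ := by rw [hx', conj_zpowers hvf hfi, inv_inv]
      have hbK : x * c⁻¹ ∈ core f := (core f).mul_mem hx (zpowers_le_core hf (inv_mem hcz))
      have hb : x * c⁻¹ ∈ (core f ⊓ centralizer ({v * L.t} : Set G) : Subgroup G) := by
        refine ⟨hbK, mem_centralizer_singleton_iff.2 ?_⟩
        have h1 : v * L.t * (x * c⁻¹) * (v * L.t)⁻¹ = x * c⁻¹ := by
          calc v * L.t * (x * c⁻¹) * (v * L.t)⁻¹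
              = (v * L.t * x * (v * L.t)⁻¹) * (v * L.t * c * (v * L.t)⁻¹)⁻¹ := by group
            _ = x * (f ^ i)⁻¹ * c := by rw [hxvt, conj_zpowers hvtf hcz, inv_inv]
            _ = x * (c * c)⁻¹ * c := by rw [hcc]
            _ = x * c⁻¹ := by group
        rw [mul_inv_eq_iff_eq_mul] at h1
        exact h1.symm
      refine ⟨⟨⟨c, hcz⟩, ⟨x * c⁻¹, hb⟩⟩, ?_⟩
      apply Subtype.ext
      show c * (x * c⁻¹) = x
      rw [← comm_zpow hf hcz hbK, inv_mul_cancel_right]
  rw [← Nat.card_congr (Equiv.ofBijective φ hbij), Nat.card_prod, Nat.card_zpowers, orderOf_f hf]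

include hf hv hvt hvf in
/-- `|core f| = p |C_{core f}(v)|²` if `v` and `v t` are conjugate in `C(f)`. -/
theorem card_core [Finite G] {w : G} (hwt : w * L.t = L.t * w) (hwf : w * f = f * w)
    (hwv : w * v * w⁻¹ = v * L.t) :
    Nat.card (core f) = p * Nat.card (core f ⊓ centralizer ({v} : Set G) : Subgroup G) ^ 2 := by
  have h1 : Nat.card (core f ⊓ centralizer ({v * L.t} : Set G) : Subgroup G) =
      Nat.card (core f ⊓ centralizer ({v} : Set G) : Subgroup G) := by
    have h2 : ∀ x, x ∈ (core f ⊓ centralizer ({v} : Set G) : Subgroup G) →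
        w * x * w⁻¹ ∈ (core f ⊓ centralizer ({v * L.t} : Set G) : Subgroup G) := by
      rintro x ⟨hx, hx'⟩
      replace hx' := mem_centralizer_singleton_iff.1 hx'
      refine ⟨conj_mem_core_of_comm hwf hx, mem_centralizer_singleton_iff.2 ?_⟩
      rw [← hwv]
      calc w * x * w⁻¹ * (w * v * w⁻¹) = w * (x * v) * w⁻¹ := by group
        _ = w * (v * x) * w⁻¹ := by rw [hx']
        _ = w * v * w⁻¹ * (w * x * w⁻¹) := by group
    have hwf' : w⁻¹ * f = f * w⁻¹ := by
      rw [inv_mul_eq_iff_eq_mul, ← mul_assoc, hwf, mul_inv_cancel_right]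
    have h3 : ∀ x, x ∈ (core f ⊓ centralizer ({v * L.t} : Set G) : Subgroup G) →
        w⁻¹ * x * w ∈ (core f ⊓ centralizer ({v} : Set G) : Subgroup G) := by
      rintro x ⟨hx, hx'⟩
      have h4 := conj_mem_core_of_comm hwf' hx
      rw [inv_inv] at h4
      replace hx' := mem_centralizer_singleton_iff.1 hx'
      refine ⟨h4, mem_centralizer_singleton_iff.2 ?_⟩
      have h5 : v = w⁻¹ * (v * L.t) * w := by rw [← hwv]; group
      rw [h5]
      calc w⁻¹ * x * w * (w⁻¹ * (v * L.t) * w) = w⁻¹ * (x * (v * L.t)) * w := by group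
        _ = w⁻¹ * (v * L.t * x) * w := by rw [hx']
        _ = w⁻¹ * (v * L.t) * w * (w⁻¹ * x * w) := by group
    symm
    refine Nat.card_congr
      { toFun := fun x => ⟨w * x * w⁻¹, h2 x x.2⟩
        invFun := fun x => ⟨w⁻¹ * x * w, h3 x x.2⟩
        left_inv := fun x => Subtype.ext (by
          show w⁻¹ * (w * x * w⁻¹) * w = x
          group)
        right_inv := fun x => Subtype.ext (by
          show w * (w⁻¹ * x * w) * w⁻¹ = x
          group) }
  rw [card_core_eq hf hv hvf, card_inverted hf hv hvt hvf, h1]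
  ring

end Cfsg.Agent.SporRec.Nine.Card
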