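import Cfsg.Agent.SporRec.LyFiveCore

/-!
# Groups with an involution centraliser `2.A_n`: lifts of `p`-cycles

`AnType n G`: `G` has an involution `t` with centraliser a double cover of `A_n` and one class of involutions.
`Cyc p L f`: `f` is a lift of order `p` of a `p`-cycle, `5 ≤ n - p < 8`. The largest normal subgroup of odd order
`core f` of `C_G(f)`, exactly as in `LyFiveCore`.
-/

set_option autoImplicit false
set_option linter.unusedSectionVars false

namespace Cfsg.Agent.SporRec.Nine.Core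

open Subgroup Equiv Cfsg Cfsg.Agent.SporRec.TwoAn Cfsg.Agent.SporRec.LyType
open Cfsg.Agent.SporRec.LyFiveCore (exists_sqrt exists_conj_of_coset odd_pPrimeCore zstar coreOf coreOf_le
  odd_card_coreOf mem_coreOf le_coreOf conj_mem_coreOf core core_eq normal_odd_trivial)
open Cfsg.Agent.SporadicRecognition.AltCover

/-- A group with an involution `t` whose centraliser is `2.A_n`, and with one class of involutions. -/
structure AnType (n : ℕ) (G : Type*) [Group G] where
  /-- the involution -/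
  t : G
  /-- the cover `C_G(t) → A_n` -/
  K : Cover (Fin n) (centralizer ({t} : Set G))
  hz : (K.z : G) = t
  one : ∀ s : G, s * s = 1 → s ≠ 1 → ∃ g, g * t * g⁻¹ = s

namespace AnType

variable {n : ℕ} {G : Type*} [Group G] (L : AnType n G)

theorem t_mul_t : L.t * L.t = 1 := by
  have h := congrArg Subtype.val L.K.z_mul_z
  rw [Subgroup.coe_mul, L.hz] at h
  exact h

theorem t_ne : L.t ≠ 1 := by
  intro h
  apply L.K.z_ne
  apply Subtype.ext
  rw [L.hz, h]
  rfl

theorem t_inv : L.t⁻¹ = L.t := inv_eq_of_mul_eq_one_left L.t_mul_t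

theorem mem_iff {g : G} : g ∈ centralizer ({L.t} : Set G) ↔ g * L.t = L.t * g := mem_centralizer_singleton_iff

include L in
/-- Any two involutions are conjugate. -/
theorem conj_of_involutions {r s : G} (hr : r * r = 1) (hr1 : r ≠ 1) (hs : s * s = 1) (hs1 : s ≠ 1) :
    ∃ g : G, g * r * g⁻¹ = s := by
  obtain ⟨a, ha⟩ := L.one r hr hr1
  obtain ⟨b, hb⟩ := L.one s hs hs1
  refine ⟨b * a⁻¹, ?_⟩
  rw [← ha, ← hb]
  group

/-- Change of the base involution by conjugation. -/
def rebase {s : G} (g : G) (hg : g * L.t * g⁻¹ = s) : AnType n G where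
  t := s
  K := L.K.map (conjCentEquiv g hg)
  hz := by
    show g * (L.K.z : G) * g⁻¹ = s
    rw [L.hz, hg]
  one r hr hr1 := by
    refine L.conj_of_involutions ?_ ?_ hr hr1
    · rw [← hg]
      calc g * L.t * g⁻¹ * (g * L.t * g⁻¹) = g * (L.t * L.t) * g⁻¹ := by group
        _ = 1 := by rw [L.t_mul_t]; group
    · intro h
      apply L.t_ne
      rw [h] at hg
      have : L.t = g⁻¹ * 1 * g := by rw [← hg]; group
      rw [this]; group

@[simp] theorem rebase_t {s : G} (g : G) (hg : g * L.t * g⁻¹ = s) : (L.rebase g hg).t = s := rfl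

include L in
/-- The same group with any involution as base involution. -/
theorem exists_rebase {s : G} (hs : s * s = 1) (hs1 : s ≠ 1) : ∃ L' : AnType n G, L'.t = s := by
  obtain ⟨g, hg⟩ := L.one s hs hs1
  exact ⟨L.rebase g hg, rfl⟩

/-- Two involutions `≠ t` of `C_G(t)` are conjugate in `C_G(t)`. -/
theorem conj_in_centralizer (hn : n < 16) {r s : G} (hrt : r * L.t = L.t * r) (hst : s * L.t = L.t * s)
    (hr : r * r = 1) (hr1 : r ≠ 1) (hr2 : r ≠ L.t) (hs : s * s = 1) (hs1 : s ≠ 1) (hs2 : s ≠ L.t) :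
    ∃ c : G, c * L.t = L.t * c ∧ c * r * c⁻¹ = s := by
  obtain ⟨c, hc⟩ := isConj_of_involutions L.K (by rw [Fintype.card_fin]; exact hn)
    (g := ⟨r, L.mem_iff.2 hrt⟩) (h := ⟨s, L.mem_iff.2 hst⟩) (Subtype.ext hr)
    (fun h => hr1 (congrArg Subtype.val h)) (fun h => hr2 ((congrArg Subtype.val h).trans L.hz)) (Subtype.ext hs)
    (fun h => hs1 (congrArg Subtype.val h)) (fun h => hs2 ((congrArg Subtype.val h).trans L.hz))
  exact ⟨c, L.mem_iff.1 c.2, congrArg Subtype.val hc⟩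

end AnType

/-- A finite simple group with an involution whose centraliser is a non-split double cover of `A_n`, `n < 16`. -/
theorem exists_anType {n : ℕ} (hn5 : 5 ≤ n) (hn : n < 16) {G : Type*} [Group G] [Finite G] [IsSimpleGroup G] (t : G)
    (ht : orderOf t = 2)
    (hcov : Cfsg.IsNonsplitDoubleCover (centralizer ({t} : Set G)) (alternatingGroup (Fin n))) :
    ∃ L : AnType n G, L.t = t := by
  obtain ⟨-, π, h, u, huu, hu1, hut, hcomm, g, hgt, hgu⟩ :=
    Cfsg.Agent.SporRec.LyReduce.reduce n hn5 t ht hcov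
  set K : Cover (Fin n) (centralizer ({t} : Set G)) := ofIsCover hn5 h with hK
  have hz : (K.z : G) = t := rfl
  have htt : t * t = 1 := by rw [← pow_two, ← ht, pow_orderOf_eq_one]
  have ht1 : t ≠ 1 := by
    intro h
    rw [h, orderOf_one] at ht
    exact absurd ht (by norm_num)
  -- involutions of the centraliser
  have hC : ∀ s : G, s * t = t * s → s * s = 1 → s ≠ 1 → ∃ g, g * t * g⁻¹ = s := by
    intro s hst hs hs1
    by_cases hs2 : s = t
    · exact ⟨1, by rw [hs2]; group⟩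
    · obtain ⟨c, hc⟩ := isConj_of_involutions K (by rw [Fintype.card_fin]; exact hn)
        (g := ⟨u, mem_centralizer_singleton_iff.2 hcomm⟩) (h := ⟨s, mem_centralizer_singleton_iff.2 hst⟩)
        (Subtype.ext huu) (fun h => hu1 (congrArg Subtype.val h)) (fun h => hut (congrArg Subtype.val h))
        (Subtype.ext hs) (fun h => hs1 (congrArg Subtype.val h)) (fun h => hs2 (congrArg Subtype.val h))
      have hc' : (c : G) * u * (c : G)⁻¹ = s := congrArg Subtype.val hc
      refine ⟨c * g, ?_⟩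
      rw [← hc', ← hgt]
      group
  refine ⟨⟨t, K, hz, ?_⟩, rfl⟩
  intro s hs hs1
  rcases dihedral_dichotomy hs htt with ⟨g, hg⟩ | ⟨w, hw, hw1, hws, hwt⟩
  · exact ⟨g⁻¹, by rw [← hg]; group⟩
  · obtain ⟨b, hb⟩ := hC w hwt hw hw1
    obtain ⟨a, ha⟩ := hC (b⁻¹ * s * b) (by
      have ht' : t = b⁻¹ * w * b := by rw [← hb]; group
      rw [ht']
      calc b⁻¹ * s * b * (b⁻¹ * w * b) = b⁻¹ * (s * w) * b := by group
        _ = b⁻¹ * (w * s) * b := by rw [hws]
        _ = b⁻¹ * w * b * (b⁻¹ * s * b) := by group) (by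
      calc b⁻¹ * s * b * (b⁻¹ * s * b) = b⁻¹ * (s * s) * b := by group
        _ = 1 := by rw [hs]; group) (by
      intro h
      apply hs1
      have : s = b * (b⁻¹ * s * b) * b⁻¹ := by group
      rw [this, h]; group)
    refine ⟨b * a, ?_⟩
    calc b * a * t * (b * a)⁻¹ = b * (a * t * a⁻¹) * b⁻¹ := by group
      _ = s := by rw [ha]; group

/-- `f` is a lift of order `p` of a `p`-cycle. -/
structure Cyc (p : ℕ) {n : ℕ} {G : Type*} [Group G] (L : AnType n G) (f : G) : Prop where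
  prime : p.Prime
  odd : Odd p
  lo : p + 5 ≤ n
  hi : n < p + 8
  comm : f * L.t = L.t * f
  pow : f ^ p = 1
  cyc : (L.K.π ⟨f, L.mem_iff.2 comm⟩).IsCycle
  card : (L.K.π ⟨f, L.mem_iff.2 comm⟩).support.card = p

section five

variable {p n : ℕ} {G : Type*} [Group G] {L : AnType n G} {f : G} (hf : Cyc p L f)

include hf

theorem f_ne : f ≠ 1 := by
  intro h
  apply hf.cyc.ne_one
  have : (⟨f, L.mem_iff.2 hf.comm⟩ : centralizer ({L.t} : Set G)) = 1 := Subtype.ext h
  rw [this, map_one]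

theorem orderOf_f : orderOf f = p := by
  have : Fact (Nat.Prime p) := ⟨hf.prime⟩
  exact orderOf_eq_prime hf.pow (f_ne hf)

theorem t_notMem : L.t ∉ zpowers f := by
  intro h
  have h1 : orderOf L.t ∣ orderOf f := by
    have := (zpowers f).orderOf_dvd_natCard h
    rwa [Nat.card_zpowers] at this
  rw [orderOf_f hf, orderOf_eq_prime (p := 2) (by rw [pow_two, L.t_mul_t]) L.t_ne] at h1
  obtain ⟨k, hk⟩ := hf.odd
  omega

theorem card_fixed : Fintype.card {x : Fin n // L.K.π ⟨f, L.mem_iff.2 hf.comm⟩ x = x} = n - p := by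
  have h1 := hf.card
  have h2 : (L.K.π ⟨f, L.mem_iff.2 hf.comm⟩).support.card +
      Fintype.card {x : Fin n // L.K.π ⟨f, L.mem_iff.2 hf.comm⟩ x = x} = n := by
    rw [Fintype.card_subtype, ← Finset.card_union_of_disjoint]
    · have : (L.K.π ⟨f, L.mem_iff.2 hf.comm⟩).support ∪
          Finset.univ.filter (fun x => L.K.π ⟨f, L.mem_iff.2 hf.comm⟩ x = x) = Finset.univ := by
        ext x
        simp only [Finset.mem_union, Perm.mem_support, Finset.mem_filter, Finset.mem_univ, true_and]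
        tauto
      rw [this, Finset.card_univ, Fintype.card_fin]
    · rw [Finset.disjoint_left]
      intro x hx hx'
      rw [Perm.mem_support] at hx
      rw [Finset.mem_filter] at hx'
      exact hx hx'.2
  omega

/-- Factorisation of the elements of `C_C(f)`. -/
theorem exists_factor {s : G} (hst : s * L.t = L.t * s) (hsf : s * f = f * s) :
    ∃ k : ℤ, ∃ l : centralizer ({L.t} : Set G),
      l ∈ L.K.sub (fun x => L.K.π ⟨f, L.mem_iff.2 hf.comm⟩ x = x) ∧ s = f ^ k * l := by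
  obtain ⟨k, l, hl, h⟩ := L.K.exists_of_comm_cycle hf.cyc (h := ⟨s, L.mem_iff.2 hst⟩) (Subtype.ext hsf)
  exact ⟨k, l, hl, congrArg Subtype.val h⟩

/-- `⟨f⟩` meets the group of elements supported on the fixed points of `f` trivially. -/
theorem zpow_eq_one_of_mem_sub {k : ℤ} (h : (⟨f, L.mem_iff.2 hf.comm⟩ : centralizer ({L.t} : Set G)) ^ k ∈
    L.K.sub (fun x => L.K.π ⟨f, L.mem_iff.2 hf.comm⟩ x = x)) : f ^ k = 1 := by
  set F : centralizer ({L.t} : Set G) := ⟨f, L.mem_iff.2 hf.comm⟩ with hF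
  have hF5 : F ^ p = 1 := Subtype.ext hf.pow
  have h1 : L.K.π (F ^ k) = 1 := by
    ext x
    rw [Perm.one_apply]
    by_cases hx : L.K.π F x = x
    · rw [map_zpow, Perm.zpow_apply_eq_self_of_apply_eq_self hx]
    · rw [h x hx]
  rcases (L.K.ker _).1 h1 with h2 | h2
  · exact congrArg Subtype.val h2
  · exfalso
    have h3 : (F ^ k) ^ p = 1 := by rw [← zpow_natCast, ← zpow_mul, mul_comm, zpow_mul, zpow_natCast, hF5, one_zpow]
    rw [h2] at h3
    have h4 : L.K.z ^ p = L.K.z := by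
      rw [L.K.z_pow, if_neg (Nat.not_even_iff_odd.2 hf.odd)]
    rw [h4] at h3
    exact L.K.z_ne h3

/-- An involution commuting with `t` and `f` is `t`. -/
theorem eq_one_or_t {s : G} (hst : s * L.t = L.t * s) (hsf : s * f = f * s) (hs : s * s = 1) :
    s = 1 ∨ s = L.t := by
  obtain ⟨k, l, hl, h⟩ := exists_factor hf hst hsf
  set F : centralizer ({L.t} : Set G) := ⟨f, L.mem_iff.2 hf.comm⟩ with hF
  have hlF : l * F = F * l := L.K.comm_of_mem_sub hl
  have hlF' : Commute l F := hlF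
  set S : centralizer ({L.t} : Set G) := ⟨s, L.mem_iff.2 hst⟩ with hS
  have hS' : S = F ^ k * l := Subtype.ext h
  have hSS : S * S = 1 := Subtype.ext hs
  have hFl : F ^ (2 * k) = (l * l)⁻¹ := by
    have h1 : F ^ k * l * (F ^ k * l) = F ^ (2 * k) * (l * l) := by
      have h2 : l * F ^ k = F ^ k * l := (hlF'.zpow_right k).eq
      calc F ^ k * l * (F ^ k * l) = F ^ k * (l * F ^ k) * l := by group
        _ = F ^ k * F ^ k * (l * l) := by rw [h2]; group
        _ = F ^ (2 * k) * (l * l) := by rw [← zpow_add, two_mul]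
    rw [← hS', hSS] at h1
    rw [eq_inv_iff_mul_eq_one, ← h1]
  have h2 : F ^ (2 * k) ∈ L.K.sub (fun x => L.K.π F x = x) := by
    rw [hFl]
    exact inv_mem (mul_mem hl hl)
  have h3 : f ^ (2 * k) = 1 := zpow_eq_one_of_mem_sub hf h2
  have h4 : f ^ k = 1 := by
    have h5 : (p : ℤ) ∣ 2 * k := by
      have := orderOf_dvd_iff_zpow_eq_one.2 h3
      rwa [orderOf_f hf] at this
    have h6 : (p : ℤ) ∣ k := by
      have hco : IsCoprime (p : ℤ) 2 := by
        have : Nat.Coprime p 2 := Nat.coprime_two_right.2 hf.odd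
        exact_mod_cast Nat.isCoprime_iff_coprime.2 this
      exact hco.dvd_of_dvd_mul_left h5
    apply orderOf_dvd_iff_zpow_eq_one.1
    rw [orderOf_f hf]
    exact h6
  have h5 : s = l := by rw [h, h4, one_mul]
  have h6 : (⟨l, hl⟩ : L.K.sub (fun x => L.K.π F x = x)) * ⟨l, hl⟩ = 1 := by
    apply Subtype.ext
    apply Subtype.ext
    show (l : G) * l = 1
    rw [← h5, hs]
  rcases (L.K.restrict (fun x => L.K.π F x = x)).eq_one_or_eq_z_of_card_lt (by
    rw [card_fixed hf]; have := hf.hi; omega) h6 with h7 | h7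
  · left
    rw [h5]
    exact congrArg (fun x : L.K.sub (fun x => L.K.π F x = x) => ((x : centralizer ({L.t} : Set G)) : G)) h7
  · right
    have h8 := congrArg (fun x : L.K.sub (fun x => L.K.π F x = x) => ((x : centralizer ({L.t} : Set G)) : G)) h7
    exact h5.trans (h8.trans L.hz)

omit hf in
theorem mem_cent {g : G} : g ∈ centralizer ({f} : Set G) ↔ g * f = f * g := mem_centralizer_singleton_iff

omit hf in
theorem core_le : core f ≤ centralizer ({f} : Set G) := coreOf_le _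

omit hf in
theorem comm_of_mem_core {k : G} (hk : k ∈ core f) : k * f = f * k := mem_cent.1 (core_le hk)

/-- `C_G(f) = O(C_G(f)) C_{C(t)}(f)`. -/
theorem exists_mul [Finite G] {g : G} (hg : g * f = f * g) :
    ∃ k ∈ core f, ∃ c : G, c * L.t = L.t * c ∧ c * f = f * c ∧ g = k * c := by
  have htf : L.t ∈ centralizer ({f} : Set G) := mem_cent.2 hf.comm.symm
  obtain ⟨⟨k, hk⟩, hk', ⟨c, hc⟩, hct, hgc⟩ := zstar (Y := centralizer ({f} : Set G)) (t := ⟨L.t, htf⟩)
    (Subtype.ext L.t_mul_t) (fun h => L.t_ne (congrArg Subtype.val h)) (fun g hg => by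
      have h1 : L.t * ((g : G) * L.t * (g : G)⁻¹) = (g : G) * L.t * (g : G)⁻¹ * L.t := congrArg Subtype.val hg
      have h2 : ((g : G) * L.t * (g : G)⁻¹) * f = f * ((g : G) * L.t * (g : G)⁻¹) := by
        have := (g * ⟨L.t, htf⟩ * g⁻¹).2
        exact mem_cent.1 this
      apply Subtype.ext
      show (g : G) * L.t * (g : G)⁻¹ = L.t
      rcases eq_one_or_t hf h1.symm h2 (by
        calc (g : G) * L.t * (g : G)⁻¹ * ((g : G) * L.t * (g : G)⁻¹) = (g : G) * (L.t * L.t) * (g : G)⁻¹ := by group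
          _ = 1 := by rw [L.t_mul_t]; group) with h3 | h3
      · exfalso
        apply L.t_ne
        have : L.t = (g : G)⁻¹ * ((g : G) * L.t * (g : G)⁻¹) * g := by group
        rw [this, h3]; group
      · exact h3) ⟨g, mem_cent.2 hg⟩
  exact ⟨k, mem_coreOf.2 ⟨hk, hk'⟩, c, congrArg Subtype.val hct, mem_cent.1 hc, congrArg Subtype.val hgc⟩

theorem odd_card_core [Finite G] : Odd (Nat.card (core f)) := odd_card_coreOf _

omit hf in
theorem conj_mem_core_of_comm [Finite G] {y k : G} (hy : y * f = f * y) (hk : k ∈ core f) : y * k * y⁻¹ ∈ core f := by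
  have hy' : y⁻¹ * f = f * y⁻¹ := by
    rw [inv_mul_eq_iff_eq_mul, ← mul_assoc, hy, mul_inv_cancel_right]
  refine conj_mem_coreOf (Y := centralizer ({f} : Set G)) (fun x hx => ?_) (fun x hx => ?_) hk
  · exact mul_mem (mul_mem (mem_cent.2 hy) hx) (mem_cent.2 hy')
  · exact mul_mem (mul_mem (mem_cent.2 hy') hx) (mem_cent.2 hy)

theorem self_mem_core [Finite G] : f ∈ core f := by
  refine le_coreOf (Y := centralizer ({f} : Set G)) (N := zpowers f) ?_ ?_ ?_ (mem_zpowers f)
  · rw [zpowers_le]; exact mem_cent.2 rfl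
  · rintro y hy n ⟨k, rfl⟩
    have h1 : Commute y (f ^ k) := Commute.zpow_right (mem_cent.1 hy) k
    rw [h1.eq, mul_inv_cancel_right]
    exact ⟨k, rfl⟩
  · rw [Nat.card_zpowers, orderOf_f hf]; exact hf.odd

theorem zpowers_le_core [Finite G] : zpowers f ≤ core f := by
  rw [zpowers_le]; exact self_mem_core hf

/-- `C_{O(C_G(f))}(t) = ⟨f⟩`. -/
theorem mem_zpowers_of_comm [Finite G] {k : G} (hk : k ∈ core f) (hkt : k * L.t = L.t * k) : k ∈ zpowers f := by
  obtain ⟨i, l, hl, h⟩ := exists_factor hf hkt (comm_of_mem_core hk)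
  set F : centralizer ({L.t} : Set G) := ⟨f, L.mem_iff.2 hf.comm⟩ with hF
  set P : Fin n → Prop := fun x => L.K.π F x = x with hP
  let φ : L.K.sub P →* G := (centralizer ({L.t} : Set G)).subtype.comp (L.K.sub P).subtype
  have hφ : Function.Injective φ := by
    intro a b hab
    exact Subtype.ext (Subtype.ext hab)
  have hM : (core f).comap φ = ⊥ := by
    refine normal_odd_trivial (L.K.restrict P) ?_ _ ?_ ?_
    · rw [card_fixed hf]; have := hf.lo; omega
    · have h1 : Nat.card ((core f).comap φ) = Nat.card (((core f).comap φ).map φ) :=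
        (card_map_of_injective hφ).symm
      have h2 : Nat.card (((core f).comap φ).map φ) ∣ Nat.card (core f) :=
        card_dvd_of_le (map_comap_le _ _)
      rw [h1]
      exact Odd.of_dvd_nat (odd_card_core hf) h2
    · intro g m hm
      rw [mem_comap] at hm ⊢
      rw [map_mul, map_mul, map_inv]
      refine conj_mem_core_of_comm ?_ hm
      exact congrArg Subtype.val (L.K.comm_of_mem_sub g.2)
  have hl' : (⟨l, hl⟩ : L.K.sub P) ∈ (core f).comap φ := by
    rw [mem_comap]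
    show (l : G) ∈ core f
    have : (l : G) = f ^ (-i) * k := by rw [h, ← mul_assoc, ← zpow_add, neg_add_cancel, zpow_zero, one_mul]
    rw [this]
    exact (core f).mul_mem (zpowers_le_core hf (zpow_mem_zpowers f _)) hk
  rw [hM, mem_bot] at hl'
  have h3 : (l : G) = 1 := congrArg φ hl'
  rw [h, h3, mul_one]
  exact zpow_mem_zpowers f i

theorem t_comm_zpow {x : G} (hx : x ∈ zpowers f) : L.t * x = x * L.t := by
  obtain ⟨i, rfl⟩ := hx
  have h1 : Commute L.t f := hf.comm.symm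
  exact (h1.zpow_right i).eq

/-- Elements of `⟨f⟩` are central in the core. -/
theorem comm_zpow {x k : G} (hx : x ∈ zpowers f) (hk : k ∈ core f) : k * x = x * k := by
  obtain ⟨i, rfl⟩ := hx
  have h1 : Commute k f := comm_of_mem_core hk
  exact (h1.zpow_right i).eq

theorem conj_t_mem_core [Finite G] {k : G} (hk : k ∈ core f) : L.t * k * L.t⁻¹ ∈ core f :=
  conj_mem_core_of_comm hf.comm.symm hk

theorem eq_one_of_mul_self {x : G} (hx : x ∈ zpowers f) (h : x * x = 1) : x = 1 := by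
  have h1 := (zpowers f).orderOf_dvd_natCard hx
  rw [Nat.card_zpowers, orderOf_f hf] at h1
  have h2 : orderOf x ∣ 2 := orderOf_dvd_of_pow_eq_one (by rw [pow_two, h])
  have h3 : orderOf x ∣ Nat.gcd p 2 := Nat.dvd_gcd h1 h2
  rw [Nat.coprime_two_right.2 hf.odd] at h3
  exact orderOf_eq_one_iff.1 (Nat.dvd_one.1 h3)

/-- Every element of the core is `m x` with `m` inverted by `t` and `x ∈ ⟨f⟩`. -/
theorem exists_inverted_mul [Finite G] {k : G} (hk : k ∈ core f) :
    ∃ m ∈ core f, ∃ x ∈ zpowers f, L.t * m * L.t⁻¹ = m⁻¹ ∧ k = m * x := by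
  set c := L.t * k * L.t⁻¹ * k⁻¹ with hc
  have hcK : c ∈ core f := (core f).mul_mem (conj_t_mem_core hf hk) ((core f).inv_mem hk)
  obtain ⟨j, hj⟩ := exists_sqrt (odd_card_core hf) hcK
  have hti := L.t_inv
  have htt := L.t_mul_t
  have h1 : L.t * c * L.t⁻¹ = c⁻¹ := by
    rw [hc, hti]
    calc L.t * (L.t * k * L.t * k⁻¹) * L.t = (L.t * L.t) * k * L.t * k⁻¹ * L.t := by group
      _ = k * L.t * k⁻¹ * L.t := by rw [htt, one_mul]
      _ = (L.t⁻¹ * k * L.t⁻¹ * k⁻¹)⁻¹ := by group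
      _ = (L.t * k * L.t * k⁻¹)⁻¹ := by rw [hti]
  set m := c ^ j with hm
  have hmK : m ∈ core f := (core f).pow_mem hcK j
  have h2 : L.t * m * L.t⁻¹ = m⁻¹ := by rw [hm, ← conj_pow, h1, inv_pow]
  have h3 : m * k ∈ zpowers f := by
    refine mem_zpowers_of_comm hf ((core f).mul_mem hmK hk) ?_
    -- `m⁻¹ t m = t m m = t c = k t k⁻¹`
    have h4 : m⁻¹ * L.t * m = k * L.t * k⁻¹ := by
      calc m⁻¹ * L.t * m = (L.t * m * L.t⁻¹) * L.t * m := by rw [h2]
        _ = L.t * (m * m) := by group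
        _ = L.t * (L.t * k * L.t⁻¹ * k⁻¹) := by rw [hj]
        _ = (L.t * L.t) * k * L.t⁻¹ * k⁻¹ := by group
        _ = k * L.t * k⁻¹ := by rw [htt, one_mul, hti]
    calc m * k * L.t = m * (k * L.t * k⁻¹) * k := by group
      _ = m * (m⁻¹ * L.t * m) * k := by rw [h4]
      _ = L.t * (m * k) := by group
  refine ⟨m⁻¹, (core f).inv_mem hmK, m * k, h3, ?_, by group⟩
  have h5 : L.t * m⁻¹ * L.t⁻¹ = (L.t * m * L.t⁻¹)⁻¹ := by group
  rw [h5, h2]

/-- `t` inverts `O(C_G(f)) / ⟨f⟩`. -/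
theorem conj_t_mul [Finite G] {k : G} (hk : k ∈ core f) : L.t * k * L.t⁻¹ * k ∈ zpowers f := by
  obtain ⟨m, hm, x, hx, h1, rfl⟩ := exists_inverted_mul hf hk
  have h2 : L.t * (m * x) * L.t⁻¹ * (m * x) = x * x := by
    calc L.t * (m * x) * L.t⁻¹ * (m * x) = (L.t * m * L.t⁻¹) * (L.t * x) * L.t⁻¹ * (m * x) := by group
      _ = m⁻¹ * (x * L.t) * L.t⁻¹ * (m * x) := by rw [h1, t_comm_zpow hf hx]
      _ = m⁻¹ * (x * m) * x := by group
      _ = m⁻¹ * (m * x) * x := by rw [comm_zpow hf hx hm]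
      _ = x * x := by group
  rw [h2]
  exact mul_mem hx hx

/-- `O(C_G(f)) / ⟨f⟩` is abelian. -/
theorem commutator_mem [Finite G] {a b : G} (ha : a ∈ core f) (hb : b ∈ core f) : a * b * a⁻¹ * b⁻¹ ∈ zpowers f := by
  obtain ⟨m, hm, x, hx, h1, rfl⟩ := exists_inverted_mul hf ha
  obtain ⟨n, hn, y, hy, h2, rfl⟩ := exists_inverted_mul hf hb
  have e1 : m * x * (n * y) * (m * x)⁻¹ * (n * y)⁻¹ = m * n * m⁻¹ * n⁻¹ := by
    have hx1 : n * x = x * n := comm_zpow hf hx hn
    have hx2 : y * x = x * y := comm_zpow hf hx ((zpowers_le_core hf) hy)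
    have hy1 : m * y = y * m := comm_zpow hf hy hm
    calc m * x * (n * y) * (m * x)⁻¹ * (n * y)⁻¹
        = m * (x * n) * y * x⁻¹ * m⁻¹ * y⁻¹ * n⁻¹ := by group
      _ = m * (n * x) * y * x⁻¹ * m⁻¹ * y⁻¹ * n⁻¹ := by rw [hx1]
      _ = m * n * (x * y) * x⁻¹ * m⁻¹ * y⁻¹ * n⁻¹ := by group
      _ = m * n * (y * x) * x⁻¹ * m⁻¹ * y⁻¹ * n⁻¹ := by rw [hx2]
      _ = m * n * y * (y * m)⁻¹ * n⁻¹ := by group
      _ = m * n * y * (m * y)⁻¹ * n⁻¹ := by rw [hy1]
      _ = m * n * m⁻¹ * n⁻¹ := by group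
  rw [e1]
  -- `t (m n) t⁻¹ = m⁻¹ n⁻¹`, and `t (m n) t⁻¹ (m n) ∈ ⟨f⟩`
  have h3 := conj_t_mul hf ((core f).mul_mem hm hn)
  have h4 : L.t * (m * n) * L.t⁻¹ * (m * n) = m⁻¹ * n⁻¹ * (m * n) := by
    calc L.t * (m * n) * L.t⁻¹ * (m * n) = (L.t * m * L.t⁻¹) * (L.t * n * L.t⁻¹) * (m * n) := by group
      _ = m⁻¹ * n⁻¹ * (m * n) := by rw [h1, h2]
  rw [h4] at h3
  -- conjugate by `n m`, `⟨f⟩` is central
  have h5 : (n * m) * (m⁻¹ * n⁻¹ * (m * n)) = (m⁻¹ * n⁻¹ * (m * n)) * (n * m) :=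
    comm_zpow hf h3 ((core f).mul_mem hn hm)
  have h6 : m * n * m⁻¹ * n⁻¹ = m⁻¹ * n⁻¹ * (m * n) := by
    calc m * n * m⁻¹ * n⁻¹ = (n * m) * (m⁻¹ * n⁻¹ * (m * n)) * (n * m)⁻¹ := by group
      _ = (m⁻¹ * n⁻¹ * (m * n)) * (n * m) * (n * m)⁻¹ := by rw [h5]
      _ = m⁻¹ * n⁻¹ * (m * n) := by group
  rw [h6]
  exact h3

/-- An involution centralising `f` is conjugate to `t` under the core. -/
theorem exists_conj_core [Finite G] {s : G} (hsf : s * f = f * s) (hs : s * s = 1) (hs1 : s ≠ 1) :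
    ∃ m ∈ core f, m * L.t * m⁻¹ = s := by
  obtain ⟨k, hk, c, hct, hcf, h⟩ := exists_mul hf hsf
  -- `c ^ 2 ∈ ⟨f⟩`
  have h1 : c * c ∈ core f := by
    have h7 : k * (c * k * c⁻¹) * (c * c) = 1 := by
      have h6 : k * c * (k * c) = 1 := by rw [← h, hs]
      rw [← h6]; group
    rw [eq_inv_of_mul_eq_one_right h7]
    exact (core f).inv_mem ((core f).mul_mem hk (conj_mem_core_of_comm hcf hk))
  have h2 : c * c ∈ zpowers f := by
    refine mem_zpowers_of_comm hf h1 ?_
    rw [mul_assoc, hct, ← mul_assoc, hct, mul_assoc]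
  obtain ⟨i, hi⟩ := h2
  replace hi : f ^ i = c * c := hi
  have hcf' : Commute c f := hcf
  have hct' : Commute c L.t := hct
  have hft' : Commute f L.t := hf.comm
  obtain ⟨m, hm⟩ := hf.odd
  set e := c * f ^ ((m : ℤ) * i) with he
  have hee : e * e = 1 := by
    have h3 : Commute c (f ^ ((m : ℤ) * i)) := hcf'.zpow_right _
    rw [he]
    calc c * f ^ ((m : ℤ) * i) * (c * f ^ ((m : ℤ) * i)) = c * (f ^ ((m : ℤ) * i) * c) * f ^ ((m : ℤ) * i) := by
          group
      _ = c * (c * f ^ ((m : ℤ) * i)) * f ^ ((m : ℤ) * i) := by rw [h3.eq]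
      _ = (c * c) * (f ^ ((m : ℤ) * i) * f ^ ((m : ℤ) * i)) := by group
      _ = f ^ i * (f ^ ((m : ℤ) * i) * f ^ ((m : ℤ) * i)) := by rw [hi]
      _ = (f ^ (p : ℤ)) ^ i := by
        rw [← zpow_add, ← zpow_add, ← zpow_mul]; congr 1; rw [hm]; push_cast; ring
      _ = 1 := by
        have : f ^ (p : ℤ) = 1 := by exact_mod_cast hf.pow
        rw [this, one_zpow]
  have het : e * L.t = L.t * e := (hct'.mul_left (hft'.zpow_left _)).eq
  have hef : e * f = f * e := (hcf'.mul_left ((Commute.refl f).zpow_left _)).eq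
  have hce : c = e * f ^ (-((m : ℤ) * i)) := by
    rw [he, mul_assoc, ← zpow_add]
    have : (m : ℤ) * i + -((m : ℤ) * i) = 0 := by ring
    rw [this, zpow_zero, mul_one]
  have hcomm3 : Commute e (f ^ (-((m : ℤ) * i))) := (show Commute e f from hef).zpow_right _
  set k1 := k * f ^ (-((m : ℤ) * i)) with hk1
  have hk1K : k1 ∈ core f := (core f).mul_mem hk (zpowers_le_core hf (zpow_mem_zpowers f _))
  have hs' : s = k1 * e := by
    rw [h, hce, hcomm3.eq, hk1, mul_assoc]
  rcases eq_one_or_t hf het hef hee with h3 | h3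
  · exfalso
    rw [h3, mul_one] at hs'
    have h4 : orderOf s ∣ Nat.card (core f) := (core f).orderOf_dvd_natCard (hs' ▸ hk1K)
    have h5 : orderOf s = 2 := orderOf_eq_prime (by rw [pow_two, hs]) hs1
    rw [h5] at h4
    exact (Nat.not_even_iff_odd.2 (odd_card_core hf)) (even_iff_two_dvd.2 h4)
  · rw [h3] at hs'
    rw [hs']
    exact exists_conj_of_coset (odd_card_core hf) L.t_mul_t hk1K (by rw [← hs', hs])

omit hf in
/-- The centraliser and the core only depend on `⟨f⟩`. -/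
theorem centralizer_eq_of_mem {f f' : G} (h1 : f' ∈ zpowers f) (h2 : f ∈ zpowers f') :
    centralizer ({f'} : Set G) = centralizer ({f} : Set G) := by
  ext g
  rw [mem_cent, mem_cent]
  constructor
  · intro h
    obtain ⟨i, hi⟩ := h2
    rw [← hi]
    exact ((show Commute g f' from h).zpow_right i).eq
  · intro h
    obtain ⟨i, hi⟩ := h1
    rw [← hi]
    exact ((show Commute g f from h).zpow_right i).eq

omit hf in
/-- The core is compatible with conjugation. -/
theorem core_conj [Finite G] {f : G} (g : G) {k : G} (hk : k ∈ core f) : g * k * g⁻¹ ∈ core (g * f * g⁻¹) := by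
  refine conj_mem_coreOf (Y := centralizer ({f} : Set G)) (Y' := centralizer ({g * f * g⁻¹} : Set G))
    (fun x hx => ?_) (fun x hx => ?_) hk
  · rw [mem_cent] at hx ⊢
    calc g * x * g⁻¹ * (g * f * g⁻¹) = g * (x * f) * g⁻¹ := by group
      _ = g * (f * x) * g⁻¹ := by rw [hx]
      _ = g * f * g⁻¹ * (g * x * g⁻¹) := by group
  · rw [mem_cent] at hx ⊢
    calc g⁻¹ * x * g * f = g⁻¹ * (x * (g * f * g⁻¹)) * g := by group
      _ = g⁻¹ * (g * f * g⁻¹ * x) * g := by rw [hx]
      _ = f * (g⁻¹ * x * g) := by group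

omit hf in
theorem conj_mem_zpowers {f n : G} (hn : n ∈ normalizer (zpowers f : Set G)) :
    n * f * n⁻¹ ∈ zpowers f ∧ f ∈ zpowers (n * f * n⁻¹) := by
  refine ⟨(mem_normalizer_iff.1 hn f).1 (mem_zpowers f), ?_⟩
  have h1 : n⁻¹ ∈ normalizer (zpowers f : Set G) := inv_mem hn
  obtain ⟨i, hi⟩ := (mem_normalizer_iff.1 h1 f).1 (mem_zpowers f)
  refine ⟨i, ?_⟩
  show (n * f * n⁻¹) ^ i = f
  have hi' : f ^ i = n⁻¹ * f * n⁻¹⁻¹ := hi
  rw [conj_zpow, hi']
  group

omit hf in
/-- `N_G(⟨f⟩)` normalises the core. -/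
theorem conj_mem_core_of_normalizer [Finite G] {f n : G} (hn : n ∈ normalizer (zpowers f : Set G)) {k : G}
    (hk : k ∈ core f) : n * k * n⁻¹ ∈ core f := by
  have h1 := core_conj n hk
  obtain ⟨h2, h3⟩ := conj_mem_zpowers hn
  rw [core_eq, centralizer_eq_of_mem h2 h3] at h1
  exact h1

/-- `N_G(⟨f⟩) = O(C_G(f)) N_{C(t)}(⟨f⟩)`. -/
theorem exists_mul_normalizer [Finite G] {n : G} (hn : n ∈ normalizer (zpowers f : Set G)) :
    ∃ k ∈ core f, ∃ c ∈ normalizer (zpowers f : Set G), c * L.t = L.t * c ∧ n = k * c := by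
  obtain ⟨h2, h3⟩ := conj_mem_zpowers hn
  have h4 : n * L.t * n⁻¹ ∈ centralizer ({f} : Set G) := by
    rw [← centralizer_eq_of_mem h2 h3, mem_cent]
    calc n * L.t * n⁻¹ * (n * f * n⁻¹) = n * (L.t * f) * n⁻¹ := by group
      _ = n * (f * L.t) * n⁻¹ := by rw [hf.comm]
      _ = n * f * n⁻¹ * (n * L.t * n⁻¹) := by group
  obtain ⟨m, hm, hm'⟩ := exists_conj_core hf (mem_cent.1 h4) (by
    calc n * L.t * n⁻¹ * (n * L.t * n⁻¹) = n * (L.t * L.t) * n⁻¹ := by group
      _ = 1 := by rw [L.t_mul_t]; group) (by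
    intro h
    apply L.t_ne
    have : L.t = n⁻¹ * (n * L.t * n⁻¹) * n := by group
    rw [this, h]; group)
  have hmn : m ∈ normalizer (zpowers f : Set G) := by
    rw [mem_normalizer_iff]
    intro x
    constructor
    · intro hx
      rw [comm_zpow hf hx hm, mul_inv_cancel_right]
      exact hx
    · intro hx
      have h5 := comm_zpow hf hx ((core f).inv_mem hm)
      have h6 : x = m⁻¹ * (m * x * m⁻¹) * m := by group
      rw [h6, h5]
      simpa using hx
  refine ⟨m, hm, m⁻¹ * n, mul_mem (inv_mem hmn) hn, ?_, by group⟩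
  calc m⁻¹ * n * L.t = m⁻¹ * (n * L.t * n⁻¹) * n := by group
    _ = m⁻¹ * (m * L.t * m⁻¹) * n := by rw [hm']
    _ = L.t * (m⁻¹ * n) := by group

end five

end Cfsg.Agent.SporRec.Nine.Core
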