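import Cfsg.Agent.SporRec.Nine.Step1

/-!
# Groups with involution centraliser `2.A_9` or `2.A_10`: the two cases

`small_or_big`: for `n = 9` either the centralisers of all 3-cycle lifts centralise `t`, or all cores have order `3⁵`;
`small_ten`: for `n = 10` the centralisers of all 3-cycle lifts centralise `t`.
-/

set_option autoImplicit false

namespace Cfsg.Agent.SporRec.Nine.Deliver

open Subgroup Equiv Cfsg Cfsg.Agent.SporRec.TwoAn Cfsg.Agent.SporRec.Nine.Core Cfsg.Agent.SporRec.Nine.Card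
  Cfsg.Agent.SporRec.Nine.Frame Cfsg.Agent.SporRec.Nine.Step1
open Cfsg.Agent.SporRec.LyFiveCore (core)

variable {n : ℕ} {G : Type*} [Group G] {L : AnType n G} {f : G}

/-- A lift of order three of a 3-cycle. -/
theorem cyc_of_card (hn : n = 9 ∨ n = 10) {y : G} (hyt : y * L.t = L.t * y) (hy : y ^ 3 = 1)
    (hc : (L.K.π ⟨y, L.mem_iff.2 hyt⟩).support.card = 3) : Cyc 3 L y where
  prime := Nat.prime_three
  odd := by decide
  lo := by omega
  hi := by omega
  comm := hyt
  pow := hy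
  cyc := (_root_.card_support_eq_three_iff.1 hc).isCycle
  card := hc

/-- All lifts of order three of 3-cycles are conjugate in `C(t)`. -/
theorem exists_conj (hf : Cyc 3 L f) {f' : G} (hf' : Cyc 3 L f') : ∃ c : G, c * L.t = L.t * c ∧ c * f * c⁻¹ = f' := by
  have h5 : 5 ≤ Nat.card (Fin n) := by rw [Nat.card_fin]; have := hf.lo; omega
  have h1 := alternatingGroup.isThreeCycle_isConj h5
    (σ := ⟨L.K.π ⟨f, L.mem_iff.2 hf.comm⟩, L.K.mem_alternating _⟩)
    (τ := ⟨L.K.π ⟨f', L.mem_iff.2 hf'.comm⟩, L.K.mem_alternating _⟩)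
    (_root_.card_support_eq_three_iff.1 hf.card) (_root_.card_support_eq_three_iff.1 hf'.card)
  obtain ⟨σ, hσ⟩ := isConj_iff.1 h1
  obtain ⟨c, hc⟩ := L.K.exists_lift σ.2
  refine ⟨c, L.mem_iff.1 c.2, ?_⟩
  have h2 : c * (⟨f, L.mem_iff.2 hf.comm⟩ : centralizer ({L.t} : Set G)) * c⁻¹ = ⟨f', L.mem_iff.2 hf'.comm⟩ := by
    refine L.K.odd_lift_unique (n := 3) (by decide) ?_ ?_ ?_
    · rw [conj_pow, (show (⟨f, L.mem_iff.2 hf.comm⟩ : centralizer ({L.t} : Set G)) ^ 3 = 1 from Subtype.ext hf.pow),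
        mul_one, mul_inv_cancel]
    · exact Subtype.ext hf'.pow
    · rw [map_mul, map_mul, map_inv, hc]
      exact congrArg Subtype.val hσ
  exact congrArg Subtype.val h2

theorem card_core_conj [Finite G] (g f : G) : Nat.card (core (g * f * g⁻¹)) = Nat.card (core f) := by
  symm
  refine Nat.card_congr
    { toFun := fun x => ⟨g * x * g⁻¹, core_conj g x.2⟩
      invFun := fun x => ⟨g⁻¹ * x * g, by
        have h1 := core_conj g⁻¹ x.2
        rw [inv_inv] at h1
        have h2 : g⁻¹ * (g * f * g⁻¹) * g = f := by group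
        rwa [h2] at h1⟩
      left_inv := fun x => Subtype.ext (by
        show g⁻¹ * (g * x * g⁻¹) * g = x
        group)
      right_inv := fun x => Subtype.ext (by
        show g * (g⁻¹ * x * g) * g⁻¹ = x
        group) }

theorem card_core_eq' [Finite G] (hf : Cyc 3 L f) {f' : G} (hf' : Cyc 3 L f') :
    Nat.card (core f') = Nat.card (core f) := by
  obtain ⟨c, -, rfl⟩ := exists_conj hf hf'
  exact card_core_conj c f

/-- If the core is small then `C_G(y) ≤ C_G(t)`. -/
theorem comm_t_of_card [Finite G] (hf : Cyc 3 L f) (h : Nat.card (core f) = 3) {g : G} (hg : g * f = f * g) :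
    g * L.t = L.t * g := by
  obtain ⟨k, hk, c, hct, -, rfl⟩ := exists_mul hf hg
  have h1 : core f = zpowers f := by
    symm
    apply eq_of_le_of_card_ge (zpowers_le_core hf)
    rw [h, Nat.card_zpowers, orderOf_f hf]
  rw [h1] at hk
  have c1 : Commute k L.t := (t_comm_zpow hf hk).symm
  have c2 : Commute c L.t := hct
  exact (c1.mul_left c2).eq

/-- `n = 10`. -/
theorem small_ten [Finite G] (L : AnType 10 G) : ∀ (y : G) (hyt : y * L.t = L.t * y), y ^ 3 = 1 →
    (L.K.π ⟨y, L.mem_iff.2 hyt⟩).support.card = 3 → ∀ g, g * y = y * g → g * L.t = L.t * g := by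
  intro y hyt hy hc g hg
  have hf : Cyc 3 L y := cyc_of_card (Or.inr rfl) hyt hy hc
  exact comm_t_of_card hf (card_core_ten hf) hg

/-- `n = 9`: the two cases. -/
theorem small_or_big [Finite G] (L : AnType 9 G) :
    (∀ (y : G) (hyt : y * L.t = L.t * y), y ^ 3 = 1 → (L.K.π ⟨y, L.mem_iff.2 hyt⟩).support.card = 3 →
      ∀ g, g * y = y * g → g * L.t = L.t * g) ∨
    ∀ (y : G) (hyt : y * L.t = L.t * y), y ^ 3 = 1 → (L.K.π ⟨y, L.mem_iff.2 hyt⟩).support.card = 3 →
      Cyc 3 L y ∧ Nat.card (core y) = 243 := by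
  by_cases h : ∃ f, Cyc 3 L f ∧ Nat.card (core f) = 3
  · left
    obtain ⟨f, hf, hf3⟩ := h
    intro y hyt hy hc g hg
    have hy' : Cyc 3 L y := cyc_of_card (Or.inl rfl) hyt hy hc
    exact comm_t_of_card hy' ((card_core_eq' hf hy').trans hf3) hg
  · right
    intro y hyt hy hc
    have hy' : Cyc 3 L y := cyc_of_card (Or.inl rfl) hyt hy hc
    refine ⟨hy', ?_⟩
    rcases card_core_nine hy' with h1 | h1
    · exact absurd ⟨y, hy', h1⟩ h
    · exact h1

end Cfsg.Agent.SporRec.Nine.Deliver
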