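import Cfsg.Agent.SporRec.Nine.Card

/-!
# Explicit elements for a 3-cycle lift in a group with involution centraliser `2.A_9` or `2.A_10`

`exists_frame`: the involution `v` inverting `f`, `w` with `v^w = v t`, and generators `a`, `b` of a quaternion group
with centre `⟨t⟩` commuting with `f` and `v`; for `n = 10`, an element `s` of order seven.
-/

set_option autoImplicit false

namespace Cfsg.Agent.SporRec.Nine.Frame

open Subgroup Equiv Cfsg Cfsg.Agent.SporRec.TwoAn Cfsg.Agent.SporRec.Nine.Core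

section general

variable {α : Type*} [Fintype α] [DecidableEq α] {C : Type*} [Group C] (K : Cover α C)

/-- Lifts of `(a b)(c d)` and `(a b)(e f)`. -/
theorem anticomm_share {u v : C} (hu : u * u = K.z) (hv : v * v = K.z) (huv : u * v * (u * v) = K.z) :
    u * v = v * u * K.z := by
  have h1 : u * v = K.z * (u * v)⁻¹ := by rw [eq_mul_inv_iff_mul_eq, huv]
  have hui : u⁻¹ = u * K.z := by
    rw [inv_eq_iff_mul_eq_one, ← mul_assoc, hu, K.z_mul_z]
  have hvi : v⁻¹ = v * K.z := by
    rw [inv_eq_iff_mul_eq_one, ← mul_assoc, hv, K.z_mul_z]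
  rw [h1, mul_inv_rev, hui, hvi]
  calc K.z * (v * K.z * (u * K.z)) = (K.z * v) * (K.z * u) * K.z := by group
    _ = (v * K.z) * (u * K.z) * K.z := by rw [K.z_comm v, K.z_comm u]
    _ = v * (K.z * u) * (K.z * K.z) := by group
    _ = v * u * K.z := by rw [K.z_mul_z, mul_one, ← K.z_comm u, mul_assoc]

end general


namespace N9

/-- the standard 3-cycle `(0 1 2)` -/
def c3 : Perm (Fin 9) := swap 0 1 * swap 1 2

theorem c3_isCycle : c3.IsCycle := by
  refine ⟨0, by decide, ?_⟩
  intro y hy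
  have h : ∀ y : Fin 9, c3 y ≠ y → ∃ i : Fin 3, (c3 ^ (i : ℕ)) 0 = y := by decide
  obtain ⟨i, hi⟩ := h y hy
  exact ⟨(i : ℕ), by rw [zpow_natCast]; exact hi⟩

theorem c3_card : c3.support.card = 3 := by decide

/-- `v`, `w`, `a`, `b` for the standard cycle. -/
theorem exists_vwab {C : Type*} [Group C] (K : Cover (Fin 9) C) {F : C} (hF : K.π F = c3) (hF3 : F ^ 3 = 1) :
    ∃ v w a b : C, v * v = 1 ∧ K.π v = swap 0 1 * swap 3 4 * (swap 5 6 * swap 7 8) ∧ v * F * v⁻¹ = F⁻¹ ∧
      w * F = F * w ∧ w * v * w⁻¹ = v * K.z ∧ a * F = F * a ∧ a * v = v * a ∧ b * F = F * b ∧ b * v = v * b ∧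
      a * a = K.z ∧ b * b = K.z ∧ a * b = b * a * K.z := by
  obtain ⟨u, hu⟩ := K.exists_lift (Cover.swap_mul_swap_mem 0 1 3 4 (by decide) (by decide))
  obtain ⟨u', hu'⟩ := K.exists_lift (Cover.swap_mul_swap_mem 5 6 7 8 (by decide) (by decide))
  obtain ⟨w, hw⟩ := K.exists_lift (Cover.swap_mul_swap_mem 5 7 6 8 (by decide) (by decide))
  obtain ⟨b, hb⟩ := K.exists_lift (Cover.swap_mul_swap_mem 3 4 5 6 (by decide) (by decide))
  have huu : u * u = K.z := K.dbl 0 1 3 4 (by decide) (by decide) (by decide) (by decide) (by decide) (by decide) u hu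
  have huu' : u' * u' = K.z :=
    K.dbl 5 6 7 8 (by decide) (by decide) (by decide) (by decide) (by decide) (by decide) u' hu'
  have hbb : b * b = K.z :=
    K.dbl 3 4 5 6 (by decide) (by decide) (by decide) (by decide) (by decide) (by decide) b hb
  have cuu : u * u' = u' * u := K.commute_of_disjoint (by
    rw [hu, hu']; intro x; revert x; decide)
  have cwu : w * u = u * w := K.commute_of_disjoint (by
    rw [hu, hw]; intro x; revert x; decide)
  have awu : w * u' = u' * w * K.z := K.anticomm (a := 5) (b := 6) (c := 7) (d := 8)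
    (by decide) (by decide) (by decide) (by decide) (by decide) (by decide) hu' hw
  have abu : b * u = u * b * K.z := anticomm_share K hbb huu
    (K.dbl 0 1 5 6 (by decide) (by decide) (by decide) (by decide) (by decide) (by decide) (b * u) (by
      rw [map_mul, hb, hu]; decide))
  have abu' : b * u' = u' * b * K.z := anticomm_share K hbb huu'
    (K.dbl 3 4 7 8 (by decide) (by decide) (by decide) (by decide) (by decide) (by decide) (b * u') (by
      rw [map_mul, hb, hu']; decide))
  refine ⟨u * u', w, u', b, ?_, ?_, ?_, ?_, ?_, ?_, ?_, ?_, ?_, huu', hbb, ?_⟩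
  · calc u * u' * (u * u') = u * (u' * u) * u' := by group
      _ = (u * u) * (u' * u') := by rw [← cuu]; group
      _ = 1 := by rw [huu, huu', K.z_mul_z]
  · rw [map_mul, hu, hu']
  · refine K.odd_lift_unique (n := 3) (by decide) ?_ ?_ ?_
    · rw [conj_pow, hF3, mul_one, mul_inv_cancel]
    · rw [inv_pow, hF3, inv_one]
    · rw [map_mul, map_mul, map_inv, map_mul, hu, hu', map_inv, hF]
      decide
  · exact K.commute_of_disjoint (by rw [hF, hw]; intro x; revert x; decide)
  · rw [mul_inv_eq_iff_eq_mul]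
    calc w * (u * u') = (w * u) * u' := by group
      _ = u * (w * u') := by rw [cwu]; group
      _ = u * (u' * w * K.z) := by rw [awu]
      _ = u * u' * (w * K.z) := by group
      _ = u * u' * K.z * w := by rw [K.z_comm]; group
  · exact K.commute_of_disjoint (by rw [hF, hu']; intro x; revert x; decide)
  · rw [← mul_assoc, ← cuu]
  · exact K.commute_of_disjoint (by rw [hF, hb]; intro x; revert x; decide)
  · calc b * (u * u') = (b * u) * u' := by group
      _ = u * b * (K.z * u') := by rw [abu]; group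
      _ = u * (b * u') * K.z := by rw [← K.z_comm]; group
      _ = u * u' * b * (K.z * K.z) := by rw [abu']; group
      _ = u * u' * b := by rw [K.z_mul_z, mul_one]
  · rw [abu', mul_assoc, K.z_mul_z, mul_one]

end N9

namespace N10

/-- the standard 3-cycle `(0 1 2)` -/
def c3 : Perm (Fin 10) := swap 0 1 * swap 1 2

theorem c3_isCycle : c3.IsCycle := by
  refine ⟨0, by decide, ?_⟩
  intro y hy
  have h : ∀ y : Fin 10, c3 y ≠ y → ∃ i : Fin 3, (c3 ^ (i : ℕ)) 0 = y := by decide
  obtain ⟨i, hi⟩ := h y hy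
  exact ⟨(i : ℕ), by rw [zpow_natCast]; exact hi⟩

theorem c3_card : c3.support.card = 3 := by decide

/-- `v`, `w`, `a`, `b` for the standard cycle. -/
theorem exists_vwab {C : Type*} [Group C] (K : Cover (Fin 10) C) {F : C} (hF : K.π F = c3) (hF3 : F ^ 3 = 1) :
    ∃ v w a b : C, v * v = 1 ∧ K.π v = swap 0 1 * swap 3 4 * (swap 5 6 * swap 7 8) ∧ v * F * v⁻¹ = F⁻¹ ∧
      w * F = F * w ∧ w * v * w⁻¹ = v * K.z ∧ a * F = F * a ∧ a * v = v * a ∧ b * F = F * b ∧ b * v = v * b ∧
      a * a = K.z ∧ b * b = K.z ∧ a * b = b * a * K.z := by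
  obtain ⟨u, hu⟩ := K.exists_lift (Cover.swap_mul_swap_mem 0 1 3 4 (by decide) (by decide))
  obtain ⟨u', hu'⟩ := K.exists_lift (Cover.swap_mul_swap_mem 5 6 7 8 (by decide) (by decide))
  obtain ⟨w, hw⟩ := K.exists_lift (Cover.swap_mul_swap_mem 5 7 6 8 (by decide) (by decide))
  obtain ⟨b, hb⟩ := K.exists_lift (Cover.swap_mul_swap_mem 3 4 5 6 (by decide) (by decide))
  have huu : u * u = K.z := K.dbl 0 1 3 4 (by decide) (by decide) (by decide) (by decide) (by decide) (by decide) u hu
  have huu' : u' * u' = K.z :=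
    K.dbl 5 6 7 8 (by decide) (by decide) (by decide) (by decide) (by decide) (by decide) u' hu'
  have hbb : b * b = K.z :=
    K.dbl 3 4 5 6 (by decide) (by decide) (by decide) (by decide) (by decide) (by decide) b hb
  have cuu : u * u' = u' * u := K.commute_of_disjoint (by
    rw [hu, hu']; intro x; revert x; decide)
  have cwu : w * u = u * w := K.commute_of_disjoint (by
    rw [hu, hw]; intro x; revert x; decide)
  have awu : w * u' = u' * w * K.z := K.anticomm (a := 5) (b := 6) (c := 7) (d := 8)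
    (by decide) (by decide) (by decide) (by decide) (by decide) (by decide) hu' hw
  have abu : b * u = u * b * K.z := anticomm_share K hbb huu
    (K.dbl 0 1 5 6 (by decide) (by decide) (by decide) (by decide) (by decide) (by decide) (b * u) (by
      rw [map_mul, hb, hu]; decide))
  have abu' : b * u' = u' * b * K.z := anticomm_share K hbb huu'
    (K.dbl 3 4 7 8 (by decide) (by decide) (by decide) (by decide) (by decide) (by decide) (b * u') (by
      rw [map_mul, hb, hu']; decide))
  refine ⟨u * u', w, u', b, ?_, ?_, ?_, ?_, ?_, ?_, ?_, ?_, ?_, huu', hbb, ?_⟩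
  · calc u * u' * (u * u') = u * (u' * u) * u' := by group
      _ = (u * u) * (u' * u') := by rw [← cuu]; group
      _ = 1 := by rw [huu, huu', K.z_mul_z]
  · rw [map_mul, hu, hu']
  · refine K.odd_lift_unique (n := 3) (by decide) ?_ ?_ ?_
    · rw [conj_pow, hF3, mul_one, mul_inv_cancel]
    · rw [inv_pow, hF3, inv_one]
    · rw [map_mul, map_mul, map_inv, map_mul, hu, hu', map_inv, hF]
      decide
  · exact K.commute_of_disjoint (by rw [hF, hw]; intro x; revert x; decide)
  · rw [mul_inv_eq_iff_eq_mul]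
    calc w * (u * u') = (w * u) * u' := by group
      _ = u * (w * u') := by rw [cwu]; group
      _ = u * (u' * w * K.z) := by rw [awu]
      _ = u * u' * (w * K.z) := by group
      _ = u * u' * K.z * w := by rw [K.z_comm]; group
  · exact K.commute_of_disjoint (by rw [hF, hu']; intro x; revert x; decide)
  · rw [← mul_assoc, ← cuu]
  · exact K.commute_of_disjoint (by rw [hF, hb]; intro x; revert x; decide)
  · calc b * (u * u') = (b * u) * u' := by group
      _ = u * b * (K.z * u') := by rw [abu]; group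
      _ = u * (b * u') * K.z := by rw [← K.z_comm]; group
      _ = u * u' * b * (K.z * K.z) := by rw [abu']; group
      _ = u * u' * b := by rw [K.z_mul_z, mul_one]
  · rw [abu', mul_assoc, K.z_mul_z, mul_one]

end N10

set_option maxRecDepth 100000 in
/-- For `n = 10`: an element of order seven and an element `g` such that `s s^g` is a lift of a double transposition. -/
theorem exists_seven {C : Type*} [Group C] (K : Cover (Fin 10) C) {F : C} (hF : K.π F = N10.c3) :
    ∃ s g : C, s ^ 7 = 1 ∧ s * F = F * s ∧ g * F = F * g ∧ s * (g * s * g⁻¹) * (s * (g * s * g⁻¹)) = K.z := by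
  obtain ⟨s, hs, hsπ⟩ := K.exists_odd_lift (n := 7)
    (σ := swap 3 4 * swap 4 5 * swap 5 6 * swap 6 7 * swap 7 8 * swap 8 9) (by
      rw [Perm.mem_alternatingGroup, map_mul, map_mul, map_mul, map_mul, map_mul, Perm.sign_swap (by decide),
        Perm.sign_swap (by decide), Perm.sign_swap (by decide), Perm.sign_swap (by decide),
        Perm.sign_swap (by decide), Perm.sign_swap (by decide)]
      decide) (by decide) (by decide)
  obtain ⟨g, hg⟩ := K.exists_lift (Cover.swap_mul_swap_mem 3 4 5 7 (by decide) (by decide))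
  refine ⟨s, g, hsπ, ?_, ?_, ?_⟩
  · exact K.commute_of_disjoint (by rw [hF, hs]; intro x; revert x; decide)
  · exact K.commute_of_disjoint (by rw [hF, hg]; intro x; revert x; decide)
  · refine K.dbl 3 8 5 9 (by decide) (by decide) (by decide) (by decide) (by decide) (by decide) _ ?_
    rw [map_mul, map_mul, map_mul, map_inv, hs, hg]
    decide

section frame

variable {n : ℕ} {G : Type*} [Group G] {L : AnType n G} {f : G}

/-- The type with relabelled points. -/
def relabel (L : AnType n G) (τ : Fin n ≃ Fin n) : AnType n G := ⟨L.t, L.K.congr τ, L.hz, L.one⟩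

theorem relabel_t (L : AnType n G) (τ : Fin n ≃ Fin n) : (relabel L τ).t = L.t := rfl

/-- Relabelling of the points. -/
theorem exists_relabel (hf : Cyc 3 L f) {c : Perm (Fin n)} (hc : c.IsCycle) (hc3 : c.support.card = 3) :
    ∃ τ : Fin n ≃ Fin n, (L.K.congr τ).π ⟨f, L.mem_iff.2 hf.comm⟩ = c := by
  have h1 : IsConj (L.K.π ⟨f, L.mem_iff.2 hf.comm⟩) c := by
    rw [Perm.isConj_iff_cycleType_eq, hf.cyc.cycleType, hc.cycleType, hf.card, hc3]
  obtain ⟨τ, hτ⟩ := isConj_iff.1 h1
  exact ⟨τ, hτ⟩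

/-- The elements `v`, `w`, `a`, `b`. -/
theorem exists_vwab (hn : n = 9 ∨ n = 10) (hf : Cyc 3 L f) : ∃ v w a b : G, v * v = 1 ∧ v ≠ 1 ∧ v ≠ L.t ∧
    v * L.t = L.t * v ∧ v * f * v⁻¹ = f⁻¹ ∧ w * L.t = L.t * w ∧ w * f = f * w ∧ w * v * w⁻¹ = v * L.t ∧
    a * L.t = L.t * a ∧ a * f = f * a ∧ a * v = v * a ∧ b * L.t = L.t * b ∧ b * f = f * b ∧ b * v = v * b ∧
    a * a = L.t ∧ b * b = L.t ∧ a * b = b * a * L.t := by
  have key : ∃ τ : Fin n ≃ Fin n, ∃ v w a b : centralizer ({L.t} : Set G), v * v = 1 ∧ (L.K.congr τ).π v ≠ 1 ∧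
      v * ⟨f, L.mem_iff.2 hf.comm⟩ * v⁻¹ = (⟨f, L.mem_iff.2 hf.comm⟩ : centralizer ({L.t} : Set G))⁻¹ ∧
      w * ⟨f, L.mem_iff.2 hf.comm⟩ = ⟨f, L.mem_iff.2 hf.comm⟩ * w ∧ w * v * w⁻¹ = v * L.K.z ∧
      a * ⟨f, L.mem_iff.2 hf.comm⟩ = ⟨f, L.mem_iff.2 hf.comm⟩ * a ∧ a * v = v * a ∧
      b * ⟨f, L.mem_iff.2 hf.comm⟩ = ⟨f, L.mem_iff.2 hf.comm⟩ * b ∧ b * v = v * b ∧
      a * a = L.K.z ∧ b * b = L.K.z ∧ a * b = b * a * L.K.z := by
    rcases hn with rfl | rfl
    · obtain ⟨τ, hπ⟩ := exists_relabel hf N9.c3_isCycle N9.c3_card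
      obtain ⟨v, w, a, b, h1, h2, h3⟩ := N9.exists_vwab (L.K.congr τ) hπ (Subtype.ext hf.pow)
      exact ⟨τ, v, w, a, b, h1, by rw [h2]; decide, h3⟩
    · obtain ⟨τ, hπ⟩ := exists_relabel hf N10.c3_isCycle N10.c3_card
      obtain ⟨v, w, a, b, h1, h2, h3⟩ := N10.exists_vwab (L.K.congr τ) hπ (Subtype.ext hf.pow)
      exact ⟨τ, v, w, a, b, h1, by rw [h2]; decide, h3⟩
  obtain ⟨τ, v, w, a, b, h1, h2, h3, h4, h5, h6, h7, h8, h9, h10, h11, h12⟩ := key
  have e : ∀ x : centralizer ({L.t} : Set G), (x : G) * L.t = L.t * x := fun x => L.mem_iff.1 x.2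
  have hv1 : v ≠ 1 := by
    intro hh
    rw [hh, map_one] at h2
    exact h2 rfl
  have hvz : v ≠ L.K.z := by
    intro hh
    rw [hh] at h2
    exact h2 (L.K.congr τ).π_z
  have hz : ((L.K.z : centralizer ({L.t} : Set G)) : G) = L.t := L.hz
  refine ⟨v, w, a, b, congrArg Subtype.val h1, fun hh => hv1 (Subtype.ext hh),
    fun hh => hvz (Subtype.ext (hh.trans L.hz.symm)), e v,
    congrArg Subtype.val h3, e w, congrArg Subtype.val h4, ?_, e a, congrArg Subtype.val h6,
    congrArg Subtype.val h7, e b, congrArg Subtype.val h8, congrArg Subtype.val h9,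
    (congrArg Subtype.val h10).trans hz, (congrArg Subtype.val h11).trans hz, ?_⟩
  · have h13 : (w : G) * v * (w : G)⁻¹ = v * (L.K.z : centralizer ({L.t} : Set G)) := congrArg Subtype.val h5
    rw [h13, hz]
  · have h13 : (a : G) * b = b * a * (L.K.z : centralizer ({L.t} : Set G)) := congrArg Subtype.val h12
    rw [h13, hz]

/-- The element of order seven for `n = 10`. -/
theorem exists_sg {L : AnType 10 G} (hf : Cyc 3 L f) : ∃ s g : G, s ^ 7 = 1 ∧ s * L.t = L.t * s ∧ s * f = f * s ∧
    g * L.t = L.t * g ∧ g * f = f * g ∧ s * (g * s * g⁻¹) * (s * (g * s * g⁻¹)) = L.t := by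
  obtain ⟨τ, hπ⟩ := exists_relabel hf N10.c3_isCycle N10.c3_card
  obtain ⟨s, g, h1, h2, h3, h4⟩ := exists_seven (L.K.congr τ) hπ
  refine ⟨s, g, congrArg Subtype.val h1, L.mem_iff.1 s.2, congrArg Subtype.val h2, L.mem_iff.1 g.2,
    congrArg Subtype.val h3, ?_⟩
  have h5 : (s : G) * (g * s * (g : G)⁻¹) * (s * (g * s * (g : G)⁻¹)) = (L.K.z : centralizer ({L.t} : Set G)) :=
    congrArg Subtype.val h4
  rw [h5, L.hz]

end frame

end Cfsg.Agent.SporRec.Nine.Frame
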