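import Cfsg.Agent.SporRec.Nine.Frame
import Cfsg.Agent.SporRec.Nine.Abel

/-!
# Groups with involution centraliser `2.A_9` or `2.A_10`: the core of the centraliser of a 3-cycle lift

`card_core_nine`: `|O(C_G(y))| = 3` or `3⁵` for `n = 9`; `card_core_ten`: `|O(C_G(y))| = 3` for `n = 10`.
-/

set_option autoImplicit false

namespace Cfsg.Agent.SporRec.Nine.Step1

open Subgroup Equiv Cfsg Cfsg.Agent.SporRec.TwoAn Cfsg.Agent.SporRec.Nine.Core Cfsg.Agent.SporRec.Nine.Card
  Cfsg.Agent.SporRec.Nine.Frame Cfsg.Agent.SporRec.Nine.Abel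
open Cfsg.Agent.SporRec.LyFiveCore (core)

variable {n : ℕ} {G : Type*} [Group G] [Finite G] {L : AnType n G} {f : G}

/-- The quaternion group acts semiregularly on `C_{core f}(v)`. -/
theorem dvd_card_inf {p : ℕ} (hf : Cyc p L f) {v : G} (hvf : v * f * v⁻¹ = f⁻¹) {Q : Subgroup G}
    (hQ8 : Nat.card Q = 8) (hQt : ∀ x ∈ Q, x * L.t = L.t * x) (hQf : ∀ x ∈ Q, x * f = f * x)
    (hQv : ∀ x ∈ Q, x * v = v * x) :
    8 ∣ Nat.card (core f ⊓ centralizer ({v} : Set G) : Subgroup G) - 1 := by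
  have h1 := card_dvd_of_stab (m := 1) Q (core f ⊓ centralizer ({v} : Set G) : Subgroup G) (by
    rintro d hd e ⟨he, hev⟩
    replace hev := mem_centralizer_singleton_iff.1 hev
    refine ⟨conj_mem_core_of_comm (hQf d hd) he, mem_centralizer_singleton_iff.2 ?_⟩
    have c1 : Commute d v := hQv d hd
    have c2 : Commute e v := hev
    exact ((c1.mul_left c2).mul_left c1.inv_left).eq) (by
    rintro b ⟨hb, hbv⟩ hb1
    replace hbv := mem_centralizer_singleton_iff.1 hbv
    by_contra hne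
    have h2 : Nat.card (Q ⊓ centralizer {b} : Subgroup G) ∣ 8 := by
      rw [← hQ8]
      exact card_dvd_of_le inf_le_left
    have h3 : 2 ∣ Nat.card (Q ⊓ centralizer {b} : Subgroup G) := by
      have h4 := Nat.le_of_dvd (by norm_num) h2
      interval_cases hc : Nat.card (Q ⊓ centralizer {b} : Subgroup G) <;> omega
    have : Fact (Nat.Prime 2) := ⟨Nat.prime_two⟩
    obtain ⟨⟨s, hs⟩, hs2⟩ := exists_prime_orderOf_dvd_card' 2 h3
    have hss : s * s = 1 := by
      have h5 : (⟨s, hs⟩ : (Q ⊓ centralizer {b} : Subgroup G)) ^ 2 = 1 := by rw [← hs2, pow_orderOf_eq_one]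
      have h6 := congrArg Subtype.val h5
      rw [pow_two] at h6
      exact h6
    have hs1 : s ≠ 1 := by
      intro h
      have h5 : (⟨s, hs⟩ : (Q ⊓ centralizer {b} : Subgroup G)) = 1 := Subtype.ext h
      rw [h5, orderOf_one] at hs2
      exact absurd hs2 (by norm_num)
    rcases eq_one_or_t hf (hQt s hs.1) (hQf s hs.1) hss with h5 | h5
    · exact hs1 h5
    · have h6 := mem_centralizer_singleton_iff.1 hs.2
      rw [h5] at h6
      exact hb1 (eq_one_of_comm hf hvf (mem_zpowers_of_comm hf hb h6.symm) hbv))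
  rw [hQ8, Nat.div_one] at h1
  exact h1

/-- Abelian subgroups of odd order of the centraliser of an involution `v`. -/
theorem embed (L : AnType n G) {v : G} (hv : v * v = 1) (hv1 : v ≠ 1) {B : Subgroup G} (hB : Odd (Nat.card B))
    (hBv : ∀ b ∈ B, b * v = v * b) (hcomm : ∀ a ∈ B, ∀ b ∈ B, a * b = b * a) :
    Nat.card B ^ 3 ≤ 3 ^ n ∧ Nat.card B ∣ n.factorial := by
  obtain ⟨L', rfl⟩ := L.exists_rebase hv hv1
  let φ : B →* Perm (Fin n) := L'.K.π.comp (B.subtype.codRestrict (centralizer ({L'.t} : Set G))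
    (fun b => L'.mem_iff.2 (hBv b b.2)))
  have hφ : Function.Injective φ := by
    rw [injective_iff_map_eq_one]
    intro b hb
    rcases (L'.K.ker _).1 hb with h | h
    · apply Subtype.ext
      have h0 : (b : G) = 1 := congrArg Subtype.val h
      exact h0
    · exfalso
      have h1 : (b : G) = L'.t := by rw [← L'.hz]; exact congrArg Subtype.val h
      have h2 : orderOf (b : G) = 2 := by
        rw [h1]
        exact orderOf_eq_prime (p := 2) (by rw [pow_two, L'.t_mul_t]) L'.t_ne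
      have h3 : orderOf (b : G) ∣ Nat.card B := B.orderOf_dvd_natCard b.2
      rw [h2] at h3
      exact (Nat.not_even_iff_odd.2 hB) (even_iff_two_dvd.2 h3)
  have h1 : Nat.card φ.range = Nat.card B := (Nat.card_congr (MonoidHom.ofInjective hφ).toEquiv).symm
  have h2 : ∀ a ∈ φ.range, ∀ b ∈ φ.range, a * b = b * a := by
    rintro _ ⟨a, rfl⟩ _ ⟨b, rfl⟩
    rw [← map_mul, ← map_mul]
    congr 1
    exact Subtype.ext (hcomm a a.2 b b.2)
  have h3 := card_pow_three_le φ.range h2
  rw [h1, Fintype.card_fin] at h3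
  refine ⟨h3, ?_⟩
  have h4 := Subgroup.card_subgroup_dvd_card φ.range
  rw [h1, Nat.card_perm, Nat.card_fin] at h4
  exact h4

/-- The order of the core. -/
theorem card_core_aux (hn : n = 9 ∨ n = 10) (hf : Cyc 3 L f) : ∃ k : ℕ, Nat.card (core f) = 3 * k ^ 2 ∧
    8 ∣ k - 1 ∧ 0 < k ∧ k ^ 3 ≤ 3 ^ n ∧ k ∣ n.factorial := by
  obtain ⟨v, w, a, b, hv, hv1, -, hvt, hvf, hwt, hwf, hwv, hat, haf, hav, hbt, hbf, hbv, haa, hbb, hab⟩ :=
    exists_vwab hn hf
  obtain ⟨Q, hQ8, hQ⟩ := exists_eight haa hbb L.t_mul_t L.t_ne hab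
  refine ⟨Nat.card (core f ⊓ centralizer ({v} : Set G) : Subgroup G), ?_, ?_, Nat.card_pos, ?_⟩
  · exact card_core hf hv hvt hvf hwt hwf hwv
  · refine dvd_card_inf hf hvf hQ8 (fun x hx => ?_) (fun x hx => ?_) (fun x hx => ?_)
    · exact mem_centralizer_singleton_iff.1 (hQ (centralizer {L.t}) (mem_centralizer_singleton_iff.2 hat)
        (mem_centralizer_singleton_iff.2 hbt) hx)
    · exact mem_centralizer_singleton_iff.1 (hQ (centralizer {f}) (mem_centralizer_singleton_iff.2 haf)
        (mem_centralizer_singleton_iff.2 hbf) hx)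
    · exact mem_centralizer_singleton_iff.1 (hQ (centralizer {v}) (mem_centralizer_singleton_iff.2 hav)
        (mem_centralizer_singleton_iff.2 hbv) hx)
  · refine embed L hv hv1 (Odd.of_dvd_nat (odd_card_core hf) (card_dvd_of_le inf_le_left)) (fun b hb => ?_)
      (fun a ha b hb => ?_)
    · exact mem_centralizer_singleton_iff.1 hb.2
    · exact comm_of_comm hf hvf ha.1 (mem_centralizer_singleton_iff.1 ha.2) hb.1
        (mem_centralizer_singleton_iff.1 hb.2)

/-- `n = 9`: the core has order `3` or `3⁵`. -/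
theorem card_core_nine {L : AnType 9 G} (hf : Cyc 3 L f) : Nat.card (core f) = 3 ∨ Nat.card (core f) = 243 := by
  obtain ⟨k, h1, h2, h3, h4, h5⟩ := card_core_aux (Or.inl rfl) hf
  have h6 : k ≤ 27 := by
    by_contra h
    have : 28 ^ 3 ≤ k ^ 3 := Nat.pow_le_pow_left (by omega) 3
    norm_num at h4 this
    omega
  have h7 : k = 1 ∨ k = 9 := by
    have : Nat.factorial 9 = 362880 := by decide
    rw [this] at h5
    interval_cases k <;> omega
  rcases h7 with rfl | rfl
  · left; rw [h1]; norm_num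
  · right; rw [h1]; norm_num

theorem card_core_ten_aux {L : AnType 10 G} (hf : Cyc 3 L f) :
    Nat.card (core f) = 3 ∨ Nat.card (core f) = 243 ∨ Nat.card (core f) = 1875 := by
  obtain ⟨k, h1, h2, h3, h4, h5⟩ := card_core_aux (Or.inr rfl) hf
  have h6 : k ≤ 38 := by
    by_contra h
    have : 39 ^ 3 ≤ k ^ 3 := Nat.pow_le_pow_left (by omega) 3
    norm_num at h4 this
    omega
  have h7 : k = 1 ∨ k = 9 ∨ k = 25 := by
    have : Nat.factorial 10 = 3628800 := by decide
    rw [this] at h5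
    interval_cases k <;> omega
  rcases h7 with rfl | rfl | rfl
  · left; rw [h1]; norm_num
  · right; left; rw [h1]; norm_num
  · right; right; rw [h1]; norm_num

/-- An element whose centraliser contains the core. -/
theorem core_le_of_seven {p : ℕ} (hf : Cyc p L f) {s g : G} (hgf : g * f = f * g)
    (hd : s * (g * s * g⁻¹) * (s * (g * s * g⁻¹)) = L.t) (hc : ∀ k ∈ core f, k * s = s * k) :
    Nat.card (core f) = p := by
  have hgf' : g⁻¹ * f = f * g⁻¹ := by
    rw [inv_mul_eq_iff_eq_mul, ← mul_assoc, hgf, mul_inv_cancel_right]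
  have h1 : ∀ k ∈ core f, k * (g * s * g⁻¹) = g * s * g⁻¹ * k := by
    intro k hk
    have h2 := conj_mem_core_of_comm hgf' hk
    rw [inv_inv] at h2
    have h3 := hc _ h2
    calc k * (g * s * g⁻¹) = g * (g⁻¹ * k * g * s) * g⁻¹ := by group
      _ = g * (s * (g⁻¹ * k * g)) * g⁻¹ := by rw [h3]
      _ = g * s * g⁻¹ * k := by group
  have h4 : core f ≤ zpowers f := by
    intro k hk
    refine mem_zpowers_of_comm hf hk ?_
    rw [← hd]
    have c1 : Commute k s := hc k hk
    have c2 : Commute k (g * s * g⁻¹) := h1 k hk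
    exact ((c1.mul_right c2).mul_right (c1.mul_right c2)).eq
  have h5 : core f = zpowers f := le_antisymm h4 (zpowers_le_core hf)
  rw [h5, Nat.card_zpowers, orderOf_f hf]

theorem ge_of_modEq {d : ℕ} (h : d ∣ 243) (h7 : 243 ≡ d [MOD 7]) : 243 ≤ d := by
  have h' : d ∣ 3 ^ 5 := by norm_num; exact h
  obtain ⟨i, hi, rfl⟩ := (Nat.dvd_prime_pow Nat.prime_three).1 h'
  unfold Nat.ModEq at h7
  interval_cases i <;> simp_all

theorem ge_of_modEq' {d : ℕ} (h3 : 3 ∣ d) (h : d ∣ 1875) (h7 : 1875 ≡ d [MOD 7]) : 1875 ≤ d := by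
  obtain ⟨m, rfl⟩ := h3
  have h' : m ∣ 5 ^ 4 := Nat.dvd_of_mul_dvd_mul_left (by norm_num : 0 < 3) (by norm_num; exact h)
  obtain ⟨i, hi, rfl⟩ := (Nat.dvd_prime_pow Nat.prime_five).1 h'
  unfold Nat.ModEq at h7
  interval_cases i <;> simp_all

/-- `n = 10`: the core has order `3`. -/
theorem card_core_ten {L : AnType 10 G} (hf : Cyc 3 L f) : Nat.card (core f) = 3 := by
  obtain ⟨s, g, hs7, hst, hsf, hgt, hgf, hd⟩ := exists_sg hf
  have h1 := card_modEq_fix (p := 7) (by norm_num) (F := core f) hs7 (fun e he => conj_mem_core_of_comm hsf he)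
  have h2 : Nat.card (core f ⊓ centralizer ({s} : Set G) : Subgroup G) ∣ Nat.card (core f) :=
    card_dvd_of_le inf_le_left
  have h3 : 3 ∣ Nat.card (core f ⊓ centralizer ({s} : Set G) : Subgroup G) := by
    rw [← orderOf_f hf]
    exact (core f ⊓ centralizer ({s} : Set G) : Subgroup G).orderOf_dvd_natCard
      ⟨self_mem_core hf, mem_centralizer_singleton_iff.2 hsf.symm⟩
  have key : Nat.card (core f) ≤ Nat.card (core f ⊓ centralizer ({s} : Set G) : Subgroup G) →
      Nat.card (core f) = 3 := by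
    intro hle
    have h4 : core f ⊓ centralizer ({s} : Set G) = core f := eq_of_le_of_card_ge inf_le_left hle
    refine core_le_of_seven hf hgf hd (fun k hk => ?_)
    rw [← h4] at hk
    exact mem_centralizer_singleton_iff.1 hk.2
  rcases card_core_ten_aux hf with h | h | h
  · exact h
  · rw [h] at h1 h2
    exact key (by rw [h]; exact ge_of_modEq h2 h1)
  · rw [h] at h1 h2
    exact key (by rw [h]; exact ge_of_modEq' h3 h2 h1)

end Cfsg.Agent.SporRec.Nine.Step1
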